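import Cfsg.Agent.Lib.Chev.CycTorus.Twisted
import Cfsg.Agent.Lib.Chev.SylowTorus.Fusion
import Cfsg.Agent.Lib.Chev.StCenterE

/-!
Common tools for the twisted tori of E6 and E7.
-/

set_option autoImplicit false
set_option maxHeartbeats 1000000

namespace CfsgLib.Chev.CycTorus

open Cfsg.Lie Matrix CfsgLib.Chev.GTorus

/-- The diagonal index modulo a prime dividing `Q - 1`, up to a common factor. -/
theorem not_dvd_relIndex_of {G : Type*} [Group G] {A B : Subgroup G} (hAB : A ≤ B) {Q a r g : ℕ}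
    (hr : r.Prime) (hQ : 1 < Q) (hQ1 : (Q : ZMod r) = 1) {ds : List ℕ}
    (hB : g * Nat.card B = Q ^ a * (ds.map fun d => Q ^ d - 1).prod)
    (hA : g * Nat.card A = (Q - 1) ^ ds.length) (hds : ∀ d ∈ ds, ¬ r ∣ d) :
    ¬ r ∣ A.relIndex B := by
  have := Fact.mk hr
  have e : A.relIndex B * (Q - 1) ^ ds.length = Q ^ a * (ds.map fun d => Q ^ d - 1).prod := by
    rw [← hB, ← hA, ← Nat.card_congr (Subgroup.subgroupOfEquivOfLe hAB).toEquiv]
    have h1 := Subgroup.card_mul_index (A.subgroupOf B)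
    rw [mul_left_comm, mul_comm (A.relIndex B)]
    exact congrArg (g * ·) h1
  have e2 : ((A.relIndex B : ℕ) : ℤ) * ((Q : ℤ) - 1) ^ ds.length =
      ((Q : ℤ) ^ a * (ds.map fun d => ∑ i ∈ Finset.range d, (Q : ℤ) ^ i).prod) *
        ((Q : ℤ) - 1) ^ ds.length := by
    have h1 := congrArg (fun n : ℕ => (n : ℤ)) e
    push_cast [Nat.cast_sub hQ.le] at h1
    rw [h1, mul_assoc]
    congr 1
    clear h1 e hds hA hB
    induction ds with
    | nil => simp
    | cons d ds ih =>
      simp only [List.map_cons, List.prod_cons, List.length_cons]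
      rw [ih, Nat.cast_sub (Nat.one_le_pow _ _ (by omega)), Nat.cast_pow, Nat.cast_one,
        ← geom_sum_mul (Q : ℤ) d, pow_succ]
      ring
  have hne : ((Q : ℤ) - 1) ^ ds.length ≠ 0 :=
    pow_ne_zero _ (sub_ne_zero.2 (by exact_mod_cast (ne_of_gt hQ)))
  have e3 := congrArg (fun z : ℤ => (z : ZMod r)) (mul_right_cancel₀ hne e2)
  simp only [Int.cast_natCast, Int.cast_mul, Int.cast_pow, hQ1, one_pow, one_mul] at e3
  intro hd
  rw [(ZMod.natCast_eq_zero_iff _ _).2 hd] at e3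
  clear e e2 hA hB hne hd
  induction ds with
  | nil => simp at e3
  | cons d ds ih =>
    simp only [List.map_cons, List.prod_cons, Int.cast_mul, Int.cast_sum, Int.cast_pow,
      Int.cast_natCast, hQ1, one_pow, Finset.sum_const, Finset.card_range, nsmul_one] at e3
    rcases mul_eq_zero.1 e3.symm with e4 | e4
    · exact hds d List.mem_cons_self ((ZMod.natCast_eq_zero_iff _ _).1 e4)
    · exact ih (fun x hx => hds x (List.mem_cons_of_mem _ hx)) e4.symm

variable {D : ChevalleyDatum} {T : Tab} {C : Tab.Cover} (h : Cert D T C)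
include h

/-- Detection from a vector in the minimal representation. -/
theorem detects_of_minRep (hnb : Rel.Nbr T) (M : MinRep) (hsq : M.chkSq = true)
    (hN : M.chkN T = true) (hM : M.chkMove T = true) (hB : M.chkBase T C = true) {i₀ : ℕ}
    (hi₀ : i₀ < T.l) (hT : M.chkTop T i₀ = true) (Y : Matrix (Fin T.l) (Fin T.l) ℤ)
    (t : Fin T.l → ℤ)
    (hY : Y * cartanT T + Matrix.vecMulVec t (Pi.single ⟨i₀, hi₀⟩ 1) = 1) :
    Detects h hnb := by
  intro L _ _ k hk h1
  have h0 : k ⟨i₀, hi₀⟩ = 1 := M.torG_col hsq h hN hM hB hT hi₀ hnb _ h1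
  funext i
  have h2 : matHom (Y * cartanT T) k = 1 := by
    rw [matHom_mul, MonoidHom.mem_ker.1 hk, map_one]
  have h3 := congrFun (congrArg (fun A => matHom A k) hY) i
  simp only [matHom_apply, Matrix.add_apply, _root_.zpow_add, Finset.prod_mul_distrib] at h3
  rw [show ∏ j, k j ^ (Y * cartanT T) i j = 1 from
    (matHom_apply _ _ i).symm.trans (congrFun h2 i), one_mul] at h3
  rw [Pi.one_apply]
  rw [Finset.prod_eq_single (⟨i₀, hi₀⟩ : Fin T.l)] at h3
  · rw [h0, _root_.one_zpow, Finset.prod_eq_single i] at h3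
    · simpa [Matrix.one_apply_eq] using h3.symm
    · intro j _ hj; rw [Matrix.one_apply_ne hj.symm, zpow_zero]
    · simp
  · intro j _ hj
    rw [Matrix.vecMulVec_apply, Pi.single_eq_of_ne hj, mul_zero, zpow_zero]
  · simp

variable {F : Type*} [Field F] {Mi : Matrix (Fin T.l) (Fin T.l) ℤ} {δ : ℕ}

omit h in
theorem pow_delta_of_ker (hMi : Mi * cartanT T = (δ : ℤ) • 1) {k : Fin T.l → Fˣ}
    (hk : k ∈ (matHom (G := Fˣ) (cartanT T)).ker) : k ^ δ = 1 := by
  have h1 : matHom Mi (matHom (cartanT T) k) = k ^ δ := by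
    rw [← matHom_mul, hMi]
    funext i
    rw [matHom_apply, Finset.prod_eq_single i]
    · simp [Matrix.smul_apply]
    · intro j _ hj; simp [Matrix.smul_apply, Matrix.one_apply_ne hj.symm]
    · simp
  rw [MonoidHom.mem_ker.1 hk, map_one] at h1
  exact h1.symm

/-- Diagonal elements of order prime to the determinant are parametrised uniquely. -/
theorem eq_of_torusHom_eq (hMi : Mi * cartanT T = (δ : ℤ) • 1) {r : ℕ} (hr : r.Coprime δ)
    {c c' : Fin T.l → Fˣ} (hc : c ^ r = 1) (hc' : c' ^ r = 1)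
    (e : Cert.torusHom (D := D) (T := T) c = Cert.torusHom (D := D) (T := T) c') : c = c' := by
  have h4 : c * c'⁻¹ ∈ (matHom (G := Fˣ) (cartanT T)).ker := by
    rw [← h.ker_torusHom, MonoidHom.mem_ker, map_mul, map_inv]
    exact mul_inv_eq_one.2 e
  have h5 := pow_delta_of_ker hMi h4
  have h7 : (c * c'⁻¹) ^ r = 1 := by rw [mul_pow, inv_pow, hc, hc', inv_one, mul_one]
  have h8 := Nat.dvd_gcd (orderOf_dvd_of_pow_eq_one h7) (orderOf_dvd_of_pow_eq_one h5)
  rw [hr.gcd_eq_one] at h8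
  exact mul_inv_eq_one.1 (orderOf_eq_one_iff.1 (Nat.dvd_one.1 h8))

/-- A diagonal element of order dividing `r` lifts to a parameter of order dividing `r`. -/
theorem exists_torusHom_root (hMi : Mi * cartanT T = (δ : ℤ) • 1) {r : ℕ} (hr : r.Coprime δ)
    (hr1 : 1 < r) {k : GL D.Idx F} (hk : k ∈ D.diagonalSubgroup F) (hkr : k ^ r = 1) :
    ∃ c : Fin T.l → Fˣ, c ^ r = 1 ∧ Cert.torusHom (D := D) (T := T) c = k := by
  obtain ⟨c₀, hc₀⟩ := h.range_torusHom.ge hk
  have h1 : c₀ ^ r ∈ (matHom (G := Fˣ) (cartanT T)).ker := by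
    rw [← h.ker_torusHom, MonoidHom.mem_ker, map_pow, hc₀, hkr]
  obtain ⟨t, -, ht⟩ := Nat.exists_mul_mod_eq_one_of_coprime hr.symm hr1
  refine ⟨c₀ ^ (δ * t), ?_, ?_⟩
  · rw [← pow_mul, show δ * t * r = r * δ * t by ring, pow_mul, pow_mul,
      pow_delta_of_ker hMi h1, one_pow]
  · rw [map_pow, hc₀]
    calc k ^ (δ * t) = k ^ (δ * t % r) := by
          conv_lhs => rw [← Nat.div_add_mod (δ * t) r, pow_add, pow_mul, hkr, one_pow, one_mul]
      _ = k := by rw [ht, pow_one]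

/-- The matrix of an element carrying a power of a diagonal element to it. -/
theorem vecMul_of_conj_of (hMi : Mi * cartanT T = (δ : ℤ) • 1) {r : ℕ} (hr : r.Coprime δ)
    {ω : Fˣ} (hω : orderOf ω = r)
    {n : GL D.Idx F} (hn : n ∈ D.monomialSubgroup F) {M : Matrix (Fin T.l) (Fin T.l) ℤ}
    (hM : Acts D T n M) (X : Fin T.l → ℤ) (a : ℤ)
    (hc : n * Cert.torusHom (D := D) (T := T) (fun i => ω ^ (a * X i)) * n⁻¹ =
      Cert.torusHom (D := D) (T := T) fun i => ω ^ X i) :
    (fun i => (X i : ZMod r)) ᵥ* M.map (Int.castRingHom (ZMod r)) =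
      (a : ZMod r) • fun i => (X i : ZMod r) := by
  have hωr : ∀ Y : Fin T.l → ℤ, (fun i => ω ^ Y i) ^ r = 1 := fun Y => funext fun i => by
    rw [Pi.pow_apply, ← zpow_natCast, ← _root_.zpow_mul, mul_comm, _root_.zpow_mul, zpow_natCast,
      ← hω, pow_orderOf_eq_one, _root_.one_zpow, Pi.one_apply]
  rw [← conj_torusHom h hn hM fun i => ω ^ X i] at hc
  have h0 := mul_left_cancel (mul_right_cancel hc)
  rw [matHom_pow] at h0
  have h1 := eq_of_torusHom_eq h hMi hr (hωr _) (hωr _) h0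
  funext i
  have h2 : (r : ℤ) ∣ a * X i - (Mᵀ *ᵥ X) i := by
    rw [← hω, orderOf_dvd_iff_zpow_eq_one, _root_.zpow_sub, congrFun h1 i, mul_inv_cancel]
  rw [← ZMod.intCast_zmod_eq_zero_iff_dvd, Int.cast_sub, sub_eq_zero, Matrix.mulVec_transpose] at h2
  rw [Pi.smul_apply, smul_eq_mul, ← Int.cast_mul, h2]
  simp [Matrix.vecMul, dotProduct]

/-- The matrix of a monomial element is unique. -/
theorem acts_unique_of (hδ : δ ≠ 0) (hMi : Mi * cartanT T = (δ : ℤ) • 1) {g : GL D.Idx F}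
    {A B : Matrix (Fin T.l) (Fin T.l) ℤ} (hA : Acts D T g A) (hB : Acts D T g B) : A = B := by
  have e : A * (cartanT T)ᵀ = B * (cartanT T)ᵀ := by
    ext i j
    obtain ⟨s, hs, hm, he⟩ := hA _ (h.simple_lt j.2)
    obtain ⟨u, hu, hm', he'⟩ := hB _ (h.simple_lt j.2)
    exact congrFun (he.symm.trans ((congrArg (carV T) (h.Maps_unique hs hu hm hm')).trans he')) i
  have e2 : (cartanT T)ᵀ * Miᵀ = (δ : ℤ) • 1 := by
    rw [← Matrix.transpose_mul, hMi, Matrix.transpose_smul, Matrix.transpose_one]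
  have := congrArg (fun X => X * Miᵀ) e
  simp only [Matrix.mul_assoc, e2, Matrix.mul_smul, Matrix.mul_one] at this
  exact smul_right_injective _ (by exact_mod_cast hδ : (δ : ℤ) ≠ 0) this

end CfsgLib.Chev.CycTorus
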