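import Cfsg.Agent.Lib.Chev.StTorus
import Cfsg.Agent.Lib.Chev.StFinite
import Cfsg.Agent.Lib.Chev.GTorus.Weyl
import Cfsg.Agent.Lib.Chev.FieldFixed

/-!
Twisted diagonal elements inside a Chevalley group, through the cover.
-/

set_option autoImplicit false
set_option maxHeartbeats 1000000

namespace CfsgLib.Chev.CycTorus

open Cfsg.Lie Matrix CfsgLib.Chev.GTorus

variable {D : ChevalleyDatum} {T : Tab} {C : Tab.Cover} (h : Cert D T C)
variable {K : Type*} [Field K]

/-- The cover as a group with the relations. -/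
noncomputable abbrev cov (K : Type*) [Field K] : Rel D T K (D.SteinbergCover K) :=
  h.relOf (R := D.steinbergRelsAB K) le_rfl (steinbergRelsAB_subset D K)

section Map

variable {K' : Type*} [Field K'] (f : K →+* K')
include h

omit h in
theorem stX_map (r : ℕ) (t : K) :
    FreeGroup.map (fun p : Fin D.nroots × K => (p.1, f p.2)) (D.stX r t) = D.stX r (f t) := by
  unfold ChevalleyDatum.stX
  split <;> simp

omit h in
theorem relsAB_map {g : FreeGroup (Fin D.nroots × K)} (hg : g ∈ D.steinbergRelsAB K) :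
    FreeGroup.map (fun p : Fin D.nroots × K => (p.1, f p.2)) g ∈ D.steinbergRelsAB K' := by
  rcases hg with ⟨r, t₁, t₂, hr, rfl⟩ | ⟨r, s, t, u, hr, hs, hne, hneg, rfl⟩
  · refine Or.inl ⟨r, f t₁, f t₂, hr, ?_⟩
    simp only [map_mul, map_inv, stX_map, map_add]
  · refine Or.inr ⟨r, s, f t, f u, hr, hs, hne, hneg, ?_⟩
    simp only [map_mul, map_inv, stX_map, ChevalleyDatum.stWord, map_list_prod, List.map_map,
      ChevalleyDatum.commWord]
    congr 3
    refine List.map_congr_left fun c _ => ?_
    simp [stX_map]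

omit h in
/-- The cover is functorial in the field. -/
noncomputable def covMap : D.SteinbergCover K →* D.SteinbergCover K' :=
  PresentedGroup.toGroup
    (f := fun p => PresentedGroup.mk (D.steinbergRelsAB K')
      (FreeGroup.map (fun p : Fin D.nroots × K => (p.1, f p.2)) (FreeGroup.of p)))
    fun g hg => by
      have e : FreeGroup.lift (fun p => PresentedGroup.mk (D.steinbergRelsAB K')
          (FreeGroup.map (fun p : Fin D.nroots × K => (p.1, f p.2)) (FreeGroup.of p))) =
          (PresentedGroup.mk (D.steinbergRelsAB K')).comp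
            (FreeGroup.map (fun p : Fin D.nroots × K => (p.1, f p.2))) :=
        FreeGroup.ext_hom _ _ fun p => by simp
      rw [e, MonoidHom.comp_apply]
      exact PresentedGroup.one_of_mem (relsAB_map f hg)

theorem covMap_x {r : ℕ} (hr : r < T.n) (t : K) :
    covMap f ((cov h K).x r t) = (cov h K').x r (f t) := by
  have hr' : r < D.nroots := h.nroots_eq.symm ▸ hr
  rw [Cert.relOf_x, Cert.relOf_x, ChevalleyDatum.stX, dif_pos hr', ChevalleyDatum.stX, dif_pos hr']
  show covMap f (PresentedGroup.of _) = _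
  rw [covMap, PresentedGroup.toGroup.of]
  simp

theorem π_covMap (z : D.SteinbergCover K) :
    (cov h K').π (covMap f z) = mapGL D f ((cov h K).π z) := by
  have hz : z ∈ Subgroup.closure {g | ∃ r, r < T.n ∧ ∃ t, g = (cov h K).x r t} := by
    rw [(cov h K).generate]; trivial
  induction hz using Subgroup.closure_induction with
  | mem g hg =>
    obtain ⟨r, hr, t, rfl⟩ := hg
    rw [covMap_x h f hr, (cov h K').π_x r hr, (cov h K).π_x r hr, h.X_map]
  | one => simp
  | mul a b _ _ ha hb => simp only [map_mul, ha, hb]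
  | inv a _ ha => simp only [map_inv, ha]

theorem covMap_hG {i : ℕ} (hi : i < T.l) (t : K) :
    covMap f ((cov h K).hG (T.simple i) t) = (cov h K').hG (T.simple i) (f t) := by
  simp only [Rel.hG, Rel.nG, map_mul, covMap_x h f (h.simple_lt hi),
    covMap_x h f (Cert.neg_lt (T := T) (h.simple_lt hi)), map_neg, map_inv₀, map_one]

end Map

include h in
theorem map_mem_monomial {K' : Type*} [Field K'] (f : K →+* K') {n : GL D.Idx K}
    (hn : n ∈ D.monomialSubgroup K) : mapGL D f n ∈ D.monomialSubgroup K' := by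
  obtain ⟨w, hw, t, ht, rfl⟩ := h.exists_word_of_monomial hn
  rw [map_mul, h.nW_map]
  exact mul_mem (h.nW_mem_monomial hw) (Cert.diagonal_le_monomial (h.map_mem_diagonal f ht))

variable (hnb : Rel.Nbr T) [Finite K]

/-- The torus of the cover. -/
noncomputable def tor (K : Type*) [Field K] [Finite K] : (Fin T.l → Kˣ) →* D.SteinbergCover K :=
  (cov h K).torG h hnb ((cov h K).mult_of_finite h hnb)

include h hnb

theorem π_tor (c : Fin T.l → Kˣ) :
    (cov h K).π (tor h hnb K c) = Cert.torusHom (D := D) (T := T) c :=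
  (cov h K).π_torG h hnb _ c

theorem covMap_tor {K' : Type*} [Field K'] [Finite K'] (f : K →+* K') (c : Fin T.l → Kˣ) :
    covMap f (tor h hnb K c) = tor h hnb K' fun i => Units.map f.toMonoidHom (c i) := by
  let θ : (Fin T.l → Kˣ) →* (Fin T.l → K'ˣ) :=
    { toFun := fun c i => Units.map f.toMonoidHom (c i)
      map_one' := funext fun i => map_one _
      map_mul' := fun a b => funext fun i => map_mul _ _ _ }
  suffices e : (covMap f).comp (tor h hnb K) = (tor h hnb K').comp θ from DFunLike.congr_fun e c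
  refine MonoidHom.pi_ext fun i u => ?_
  rw [MonoidHom.comp_apply, MonoidHom.comp_apply, tor, Rel.torG_single, covMap_hG h f i.2]
  have : θ (Pi.mulSingle i u) = Pi.mulSingle i (Units.map f.toMonoidHom u) := by
    funext j
    rcases eq_or_ne j i with rfl | hne
    · simp [θ]
    · simp [θ, Pi.mulSingle_eq_of_ne hne]
  rw [this, tor, Rel.torG_single]
  rfl

omit hnb [Finite K] in
theorem exists_lift {g : GL D.Idx K} (hg : g ∈ D.group K) :
    ∃ z, (cov h K).π z = g := by
  obtain ⟨y, hy⟩ := h.stTheta_surjective (R := D.steinbergRelsAB K) le_rfl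
    (steinbergRelsAB_subset D K) ⟨g, hg⟩
  exact ⟨y, congrArg Subtype.val hy⟩

theorem eq_tor_mul {z z' : D.SteinbergCover K} (e : (cov h K).π z = (cov h K).π z') :
    ∃ k ∈ (matHom (G := Kˣ) (cartanT T)).ker, z = z' * tor h hnb K k ∧
      ∀ w, tor h hnb K k * w = w * tor h hnb K k := by
  have hker : z'⁻¹ * z ∈ (cov h K).π.ker := by rw [MonoidHom.mem_ker, map_mul, map_inv, e, inv_mul_cancel]
  have hc : z'⁻¹ * z ∈ Subgroup.center _ := by rw [← (cov h K).ker_eq_center h hnb]; exact hker
  obtain ⟨k, hk, hkz⟩ := (cov h K).ker_le_map h hnb ((cov h K).mult_of_finite h hnb) hker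
  refine ⟨k, hk, by rw [tor, hkz, mul_inv_cancel_left], fun w => ?_⟩
  rw [tor, hkz]
  exact (Subgroup.mem_center_iff.1 hc w).symm

/-- Detection of the centre. -/
abbrev Detects : Prop :=
  ∀ (L : Type) [Field L] [Finite L], ∀ k ∈ (matHom (G := Lˣ) (cartanT T)).ker,
    tor h hnb L k = 1 → k = 1

variable {L : Type} [Field L] [Finite L] (hdet : Detects h hnb)

omit hdet in
theorem tor_injective (hdet : Detects h hnb) : Function.Injective (tor h hnb L) := by
  refine (injective_iff_map_eq_one _).2 fun c hc => hdet L c ?_ hc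
  rw [← h.ker_torusHom (F := L), MonoidHom.mem_ker, ← π_tor h hnb, hc, map_one]

variable {Mi : Matrix (Fin T.l) (Fin T.l) ℤ} {δ : ℕ}

omit hdet in
/-- Conjugation of the torus of the cover by a monomial element. -/
theorem conj_tor (hdet : Detects h hnb) (hMi : Mi * cartanT T = (δ : ℤ) • 1) (hδ : δ.Prime)
    {n : D.SteinbergCover L} {M : Matrix (Fin T.l) (Fin T.l) ℤ}
    (hn : (cov h L).π n ∈ D.monomialSubgroup L) (hM : Acts D T ((cov h L).π n) M)
    (c : Fin T.l → Lˣ) :
    n * tor h hnb L (matHom Mᵀ c) * n⁻¹ = tor h hnb L c := by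
  classical
  have hπ : ∀ c, (cov h L).π (n * tor h hnb L (matHom Mᵀ c) * n⁻¹) =
      (cov h L).π (tor h hnb L c) := fun c => by
    rw [map_mul, map_mul, map_inv, π_tor, π_tor, conj_torusHom h hn hM c]
  -- powers `δ` kill the difference
  have hexp : ∀ k ∈ (matHom (G := Lˣ) (cartanT T)).ker, k ^ δ = 1 := by
    intro k hk
    have h1 : matHom Mi (matHom (cartanT T) k) = k ^ δ := by
      rw [← matHom_mul, hMi]
      funext i
      rw [matHom_apply, Finset.prod_eq_single i]
      · simp [Matrix.smul_apply]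
      · intro j _ hj; simp [Matrix.smul_apply, Matrix.one_apply_ne hj.symm]
      · simp
    rw [MonoidHom.mem_ker.1 hk, map_one] at h1
    exact h1.symm
  have hpow : ∀ d : Fin T.l → Lˣ,
      n * tor h hnb L (matHom Mᵀ (d ^ δ)) * n⁻¹ = tor h hnb L (d ^ δ) := fun d => by
    obtain ⟨k, hk, e, hcent⟩ := eq_tor_mul h hnb (hπ d)
    rw [map_pow, map_pow, map_pow, ← conj_pow, e, Commute.mul_pow (hcent _).symm, ← map_pow (tor h hnb L) k,
      hexp k hk, map_one, mul_one]
  by_cases hdiv : δ ∣ Nat.card Lˣ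
  swap
  · have hbij := (powCoprime ((hδ.coprime_iff_not_dvd.2 hdiv).symm)).surjective
    choose d hd using fun i => hbij (c i)
    rw [show c = d ^ δ from funext fun i => (hd i).symm]
    exact hpow d
  -- pass to the extension of degree `δ`
  obtain ⟨p, hp⟩ := CharP.exists L
  have : Fintype L := Fintype.ofFinite L
  obtain ⟨e', hpp, -⟩ := FiniteField.card L p
  have := Fact.mk hpp
  have : NeZero δ := ⟨hδ.ne_zero⟩
  let L' := FiniteField.Extension L p δ
  let : Fintype L' := Fintype.ofFinite L'
  let f : L →+* L' := algebraMap L L'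
  have hcard : Nat.card L'ˣ = Nat.card L ^ δ - 1 := by
    rw [Nat.card_units, FiniteField.natCard_extension]
  have hroot : ∀ u : Lˣ, ∃ v : L'ˣ, v ^ δ = Units.map f.toMonoidHom u := by
    intro u
    obtain ⟨g, hg⟩ := IsCyclic.exists_generator (α := L'ˣ)
    obtain ⟨m, hm⟩ := Subgroup.mem_zpowers_iff.1 (hg (Units.map f.toMonoidHom u))
    have hQ : 1 < Nat.card L := Finite.one_lt_card
    have hu : u ^ (Nat.card L - 1) = 1 := by rw [← Nat.card_units]; exact pow_card_eq_one'
    have h1 : g ^ (m * ((Nat.card L - 1 : ℕ) : ℤ)) = 1 := by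
      rw [_root_.zpow_mul, hm, zpow_natCast, ← map_pow, hu, map_one]
    rw [← orderOf_dvd_iff_zpow_eq_one, orderOf_eq_card_of_forall_mem_zpowers hg, hcard,
      Nat.cast_sub (Nat.one_le_pow _ _ (by omega)), Nat.cast_pow, Nat.cast_sub hQ.le] at h1
    push_cast at h1
    obtain ⟨s, hs⟩ := h1
    set Q : ℤ := (Nat.card L : ℤ)
    have hδS : (δ : ℤ) ∣ ∑ i ∈ Finset.range δ, Q ^ i := by
      have hQ1 : (δ : ℤ) ∣ Q - 1 := by
        rw [Nat.card_units, ← Int.natCast_dvd_natCast, Nat.cast_sub hQ.le] at hdiv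
        simpa [Q] using hdiv
      rw [← ZMod.intCast_zmod_eq_zero_iff_dvd] at hQ1 ⊢
      push_cast at hQ1
      rw [sub_eq_zero] at hQ1
      push_cast
      simp [hQ1]
    obtain ⟨j, hj⟩ := hδS
    have hQne : Q - 1 ≠ 0 := by
      have : (1 : ℤ) < Q := by simpa [Q] using hQ
      omega
    have hm' : m = δ * (j * s) := by
      refine mul_right_cancel₀ hQne ?_
      rw [hs, ← geom_sum_mul Q δ, hj]; ring
    exact ⟨g ^ (j * s), by rw [← zpow_natCast, ← _root_.zpow_mul, ← hm, hm', mul_comm]⟩
  choose d hd using fun i => hroot (c i)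
  have hc : (fun i => Units.map f.toMonoidHom (c i)) = d ^ δ := funext fun i => (hd i).symm
  obtain ⟨k, hk, e, -⟩ := eq_tor_mul h hnb (hπ c)
  -- the same upstairs
  set n' := covMap f n
  have hn' : (cov h L').π n' = mapGL D f ((cov h L).π n) := π_covMap h f n
  have hM' : Acts D T ((cov h L').π n') M := fun r hr => by
    obtain ⟨s, hs, ⟨a, ha, ea⟩, he⟩ := hM r hr
    refine ⟨s, hs, ?_, he⟩
    obtain ⟨π₀, hπ₀, -⟩ := h.exists_perm (g := (cov h L').π n')
      (by rw [hn']; exact map_mem_monomial h f hn)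
    obtain ⟨b, hb, eb⟩ := (hπ₀ r hr).2.1
    have h1 := congrArg (mapGL D f) (ea 1)
    rw [map_mul, map_mul, map_inv, h.X_map, h.X_map, map_one, ← hn', eb 1] at h1
    have h2 : π₀ r = s := by
      by_contra hne
      exact hne (h.root_eq_of_X_eq (hπ₀ r hr).1 hs (by simpa using hb) h1)
    exact ⟨b, hb, h2 ▸ eb⟩
  have hconj : ∀ d : Fin T.l → L'ˣ,
      n' * tor h hnb L' (matHom Mᵀ (d ^ δ)) * n'⁻¹ = tor h hnb L' (d ^ δ) := by
    intro d
    have hπ' : (cov h L').π (n' * tor h hnb L' (matHom Mᵀ d) * n'⁻¹) =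
        (cov h L').π (tor h hnb L' d) := by
      rw [map_mul, map_mul, map_inv, π_tor, π_tor,
        conj_torusHom h (by rw [hn']; exact map_mem_monomial h f hn) hM' d]
    obtain ⟨k, hk, e, hcent⟩ := eq_tor_mul h hnb hπ'
    have hk' : k ^ δ = 1 := by
      have h1 : matHom Mi (matHom (cartanT T) k) = k ^ δ := by
        rw [← matHom_mul, hMi]
        funext i
        rw [matHom_apply, Finset.prod_eq_single i]
        · simp [Matrix.smul_apply]
        · intro j _ hj; simp [Matrix.smul_apply, Matrix.one_apply_ne hj.symm]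
        · simp
      rw [MonoidHom.mem_ker.1 hk, map_one] at h1
      exact h1.symm
    rw [map_pow, map_pow, map_pow, ← conj_pow, e, Commute.mul_pow (hcent _).symm,
      ← map_pow (tor h hnb L') k, hk', map_one, mul_one]
  have h3 := congrArg (covMap f) e
  rw [map_mul, map_mul, map_inv, covMap_tor, map_mul, covMap_tor, covMap_tor] at h3
  have hcomm : (fun i => Units.map f.toMonoidHom (matHom Mᵀ c i)) = matHom Mᵀ (d ^ δ) := by
    funext i
    rw [← hc, matHom_apply, matHom_apply, map_prod]
    simp only [map_zpow]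
  rw [hcomm, hconj d, ← hc, eq_comm, mul_eq_left] at h3
  have hk1 : k = 1 := funext fun i => by
    have h4 := congrFun (tor_injective h hnb hdet (h3.trans (map_one _).symm)) i
    exact Units.map_injective (f := f.toMonoidHom) f.injective (h4.trans (map_one _).symm)
  rw [e, hk1, map_one, mul_one]

end CfsgLib.Chev.CycTorus
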