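import Cfsg.Agent.Lib.Chev.CycTorus.LatticeE7
import Cfsg.Agent.Lib.Chev.GTorus.Types

/-!
The characteristic polynomial of a reflection times a matrix permuting three orthogonal roots.
-/

set_option autoImplicit false
set_option maxRecDepth 100000

namespace CfsgLib.Chev.CycTorus

open Matrix Polynomial CfsgLib.Chev.GTorus

theorem det_rank_one {l : ℕ} (hl : 0 < l) {M : Matrix (Fin l) (Fin l) ℤ} {a u : Fin l → ℤ}
    (h3 : (M ^ 3) *ᵥ a = a) (hua : u ⬝ᵥ a = 2) (hu1 : u ⬝ᵥ (M *ᵥ a) = 0)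
    (hu2 : u ⬝ᵥ ((M ^ 2) *ᵥ a) = 0) {t : ℤ} (ht : t ^ 3 ≠ 1) (s : ℤ) :
    (t ^ 3 - 1) * (Matrix.scalar (Fin l) t - M + s • Matrix.vecMulVec a (u ᵥ* M)).det =
      (Matrix.scalar (Fin l) t - M).det * (t ^ 3 - 1 + 2 * s) := by
  obtain ⟨n, rfl⟩ : ∃ n, l = n + 1 := ⟨l - 1, by omega⟩
  set c := t ^ 3 - 1 with hc
  have hc0 : c ≠ 0 := sub_ne_zero.2 ht
  set b : Fin (n + 1) → ℤ := t ^ 2 • a + t • (M *ᵥ a) + (M ^ 2) *ᵥ a with hb
  set w := s • (u ᵥ* M) with hw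
  have hMb : (Matrix.scalar (Fin (n + 1)) t - M) *ᵥ b = c • a := by
    have h1 : (Matrix.scalar (Fin (n + 1)) t) = t • (1 : Matrix (Fin (n + 1)) (Fin (n + 1)) ℤ) := by
      rw [Matrix.smul_one_eq_diagonal]; rfl
    rw [h1, hb, Matrix.sub_mulVec, Matrix.smul_mulVec, Matrix.one_mulVec, Matrix.mulVec_add,
      Matrix.mulVec_add, Matrix.mulVec_smul, Matrix.mulVec_smul, Matrix.mulVec_mulVec a M M,
      Matrix.mulVec_mulVec a M (M ^ 2), ← pow_two, ← pow_succ', h3, hc]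
    module
  have hwb : w ⬝ᵥ b = 2 * s := by
    rw [hw, smul_dotProduct, smul_eq_mul, ← Matrix.dotProduct_mulVec, hb, Matrix.mulVec_add,
      Matrix.mulVec_add, Matrix.mulVec_smul, Matrix.mulVec_smul, Matrix.mulVec_mulVec a M M,
      Matrix.mulVec_mulVec a M (M ^ 2), ← pow_two, ← pow_succ', h3, dotProduct_add, dotProduct_add,
      dotProduct_smul, dotProduct_smul, hu1, hu2, hua]
    simp; ring
  have h1 : (Matrix.scalar (Fin (n + 1)) t - M) * (Matrix.scalar (Fin (n + 1)) c + Matrix.vecMulVec b w) =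
      c • (Matrix.scalar (Fin (n + 1)) t - M + s • Matrix.vecMulVec a (u ᵥ* M)) := by
    rw [mul_add, Matrix.mul_vecMulVec, hMb, hw, Matrix.smul_vecMulVec, Matrix.vecMulVec_smul,
      smul_add, show Matrix.scalar (Fin (n + 1)) c = c • (1 : Matrix (Fin (n + 1)) (Fin (n + 1)) ℤ) by
        rw [Matrix.smul_one_eq_diagonal]; rfl, Matrix.mul_smul, Matrix.mul_one]
  have h2 : (Matrix.scalar (Fin (n + 1)) c + Matrix.vecMulVec b w).det = c ^ n * (c + w ⬝ᵥ b) := by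
    have h3' := Matrix.eval_charpoly (Matrix.vecMulVec (-b) w) c
    rw [Matrix.charpoly_vecMulVec, Matrix.neg_vecMulVec, sub_neg_eq_add] at h3'
    rw [← h3']
    simp [dotProduct_comm b w, pow_succ]
    ring
  have h4 := congrArg Matrix.det h1
  rw [Matrix.det_mul, Matrix.det_smul, h2, Fintype.card_fin, hwb] at h4
  refine mul_left_cancel₀ (pow_ne_zero n hc0) ?_
  linear_combination -h4

/-- The value of the characteristic polynomial. -/
def valE7 (t : ℤ) : ℤ := (t ^ 4 - t ^ 2 + 1) * (t ^ 3 + 1)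

theorem valE7_pos {t : ℤ} (ht : 2 ≤ t) : 0 < valE7 t := by
  unfold valE7
  exact mul_pos (by nlinarith [sq_nonneg (2 * t ^ 2 - 1)]) (by positivity)

theorem valE7_dvd (t : ℤ) : valE7 t ∣ t ^ 12 - 1 :=
  ⟨(t ^ 2 + 1) * (t ^ 3 - 1), by unfold valE7; ring⟩

/-- A translate of the parameters without square factor at a given prime. -/
theorem exists_shift_E7 {p : ℕ} (hp : p.Prime) {t : ℤ} (ht : 2 ≤ t) :
    ∃ t' s : ℤ, 2 ≤ t' ∧ (p : ℤ) ∣ t - t' ∧ (p : ℤ) ∣ 1 - s ∧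
      ¬ (p : ℤ) ^ 2 ∣ (t' ^ 4 - t' ^ 2 + 1) * (t' ^ 3 - 1 + 2 * s) := by
  have hpi : Prime (p : ℤ) := Nat.prime_iff_prime_int.1 hp
  have hp1 : (1 : ℤ) ≤ p := by exact_mod_cast hp.one_lt.le
  have hno : ∀ x : ℤ, ∀ p' : ℕ, p'.Prime → p' = 2 ∨ p' = 3 → ¬ (p' : ℤ) ∣ x ^ 4 - x ^ 2 + 1 := by
    intro x p' _ h hd
    rw [← ZMod.intCast_zmod_eq_zero_iff_dvd] at hd
    push_cast at hd
    rcases h with rfl | rfl
    · exact (by decide : ∀ z : ZMod 2, z ^ 4 - z ^ 2 + 1 ≠ 0) _ hd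
    · exact (by decide : ∀ z : ZMod 3, z ^ 4 - z ^ 2 + 1 ≠ 0) _ hd
  by_cases h12 : (p : ℤ) ∣ t ^ 4 - t ^ 2 + 1
  · have hp23 : p ≠ 2 ∧ p ≠ 3 := ⟨fun e => hno t p hp (.inl e) h12, fun e => hno t p hp (.inr e) h12⟩
    have hunit : ∀ x : ℤ, (p : ℤ) ∣ x ^ 4 - x ^ 2 + 1 → ¬ (p : ℤ) ∣ x ^ 3 + 1 := by
      intro x h1 h2
      have h3 : (p : ℤ) ∣ 2 := by
        have e : (2 : ℤ) = (x ^ 4 - x ^ 2 + 1) * (x ^ 2 + 1) - (x ^ 3 + 1) * (x ^ 3 - 1) := by ring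
        rw [e]
        exact dvd_sub (h1.mul_right _) (h2.mul_right _)
      have h4 : p ∣ 2 := by exact_mod_cast h3
      exact hp23.1 ((Nat.prime_dvd_prime_iff_eq hp Nat.prime_two).1 h4)
    have hm : ¬ p ∣ 12 := fun hm => by
      have h5 : p ∣ 2 ^ 2 * 3 := hm
      rcases hp.dvd_mul.1 h5 with h6 | h6
      · exact hp23.1 ((Nat.prime_dvd_prime_iff_eq hp Nat.prime_two).1 (hp.dvd_of_dvd_pow h6))
      · exact hp23.2 ((Nat.prime_dvd_prime_iff_eq hp Nat.prime_three).1 h6)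
    have hev : ∀ x : ℤ, (cyclotomic 12 ℤ).eval x = x ^ 4 - x ^ 2 + 1 := fun x => by
      rw [show (12 : ℕ) = 6 * 2 by norm_num,
        ← cyclotomic_expand_eq_cyclotomic Nat.prime_two (by norm_num : 2 ∣ 6) ℤ, cyclotomic_six]
      simp [← pow_mul]
    by_cases hd : (p : ℤ) ^ 2 ∣ t ^ 4 - t ^ 2 + 1
    · refine ⟨t + p, 1, by omega, ⟨-1, by ring⟩, by simp, fun hh => ?_⟩
      have h1 : (p : ℤ) ∣ (t + p) ^ 4 - (t + p) ^ 2 + 1 := by
        have := dvd_add ((cyclotomic 12 ℤ).sub_dvd_eval_sub (t + p) t |> (dvd_trans (by simp)))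
          (h12 : (p : ℤ) ∣ _)
        simp only [hev, sub_add_cancel] at this
        exact this
      have h2 := hpi.pow_dvd_of_dvd_mul_right 2 (fun e => hunit _ h1 (by
        rw [show (t + ↑p) ^ 3 - 1 + 2 * 1 = (t + (p : ℤ)) ^ 3 + 1 by ring] at e
        exact e)) hh
      refine not_sq_dvd_eval_add hp hm t (by rwa [hev]) ?_
      rwa [hev]
    · refine ⟨t, 1, ht, by simp, by simp, fun hh => hd ?_⟩
      exact hpi.pow_dvd_of_dvd_mul_right 2 (fun e => hunit _ h12 (by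
        rw [show t ^ 3 - 1 + 2 * 1 = t ^ 3 + 1 by ring] at e
        exact e)) hh
  · by_cases hp2 : p = 2
    · subst hp2
      obtain ⟨u, hu, hu4⟩ : ∃ u : ℤ, ((2 : ℕ) : ℤ) ∣ t - u ∧ 2 ≤ u ∧ ¬ (4 : ℤ) ∣ u + 1 := by
        by_cases h4 : (4 : ℤ) ∣ t + 1
        · exact ⟨t + 2, ⟨-1, by push_cast; ring⟩, by omega, by omega⟩
        · exact ⟨t, by simp, ht, h4⟩
      refine ⟨u, 1, hu4.1, hu, by simp, fun hh => ?_⟩
      have h2 := hpi.pow_dvd_of_dvd_mul_left 2 (hno u 2 Nat.prime_two (.inl rfl)) hh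
      norm_num at h2
      rw [show u ^ 3 - 1 + 2 = (u + 1) * (u ^ 2 - u + 1) by ring] at h2
      have hodd : IsCoprime (4 : ℤ) (u ^ 2 - u + 1) := by
        have h3 : IsCoprime (2 : ℤ) (u ^ 2 - u + 1) := by
          refine (Int.prime_two).coprime_iff_not_dvd.2 fun hd => ?_
          obtain ⟨m, rfl | rfl⟩ := Int.even_or_odd' u <;> ring_nf at hd <;> omega
        simpa [show (4 : ℤ) = 2 * 2 by norm_num] using h3.mul_left h3
      exact hu4.2 (hodd.dvd_of_dvd_mul_right h2)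
    · by_cases hd : (p : ℤ) ^ 2 ∣ t ^ 3 + 1
      · refine ⟨t, 1 + p, ht, by simp, ⟨-1, by ring⟩, fun hh => ?_⟩
        have h2 := hpi.pow_dvd_of_dvd_mul_left 2 h12 hh
        rw [show t ^ 3 - 1 + 2 * (1 + (p : ℤ)) = t ^ 3 + 1 + 2 * p by ring, dvd_add_right hd,
          pow_two, mul_dvd_mul_iff_right (by omega : (p : ℤ) ≠ 0)] at h2
        have h4 : p ∣ 2 := by exact_mod_cast h2
        exact hp2 ((Nat.prime_dvd_prime_iff_eq hp Nat.prime_two).1 h4)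
      · refine ⟨t, 1, ht, by simp, by simp, fun hh => hd ?_⟩
        have h2 := hpi.pow_dvd_of_dvd_mul_left 2 h12 hh
        rwa [show t ^ 3 - 1 + 2 * 1 = t ^ 3 + 1 by ring] at h2

end CfsgLib.Chev.CycTorus
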