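import Cfsg.Agent.Lib.Chev.CycTorus.RegularE6

/-!
An isometry commuting with `M` and fixing the eigenvector is trivial.
-/

set_option autoImplicit false
set_option maxRecDepth 100000
set_option maxHeartbeats 1000000

namespace CfsgLib.Chev.CycTorus

open Matrix Polynomial CfsgLib.Chev.SylowTorus CfsgLib.Chev.GTorus

variable {l : ℕ}

/-- A short polynomial relation in a module over a cyclotomic field is trivial. -/
theorem ann_zero {M : Matrix (Fin l) (Fin l) ℤ} {m : ℕ} (hm : 0 < m) {u : Fin l → ℤ} (hu : u ≠ 0)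
    (hMu : aeval M (cyclotomic m ℤ) *ᵥ u = 0) {g : ℤ[X]} (hdeg : g.natDegree < m.totient)
    (hg : aeval M g *ᵥ u = 0) : g = 0 := by
  by_contra hg0
  have hcop : IsCoprime (g.map (Int.castRingHom ℚ)) (cyclotomic m ℚ) := by
    refine ((cyclotomic.irreducible_rat hm).coprime_iff_not_dvd.2 fun hd => ?_).symm
    have h1 := Polynomial.natDegree_le_of_dvd hd
      (Polynomial.map_ne_zero_iff Int.cast_injective |>.2 hg0)
    rw [natDegree_cyclotomic] at h1
    have := (Polynomial.natDegree_map_le (f := Int.castRingHom ℚ) (p := g))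
    omega
  obtain ⟨a, b, hab⟩ := hcop
  set A := ratM M
  set uq : Fin l → ℚ := fun i => (u i : ℚ)
  have key : ∀ p : ℤ[X], aeval M p *ᵥ u = 0 → aeval A (p.map (Int.castRingHom ℚ)) *ᵥ uq = 0 := by
    intro p hp
    rw [← ratM_aeval]
    funext i
    have h1 : Int.castRingHom ℚ ((aeval M p *ᵥ u) i) = 0 := by rw [hp]; simp
    rw [RingHom.map_mulVec] at h1
    simpa [ratM, uq, Function.comp_def] using h1
  have h1 := congrArg (fun f => aeval A f *ᵥ uq) hab
  simp only [map_add, map_mul, map_one, Matrix.add_mulVec, Matrix.one_mulVec,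
    ← Matrix.mulVec_mulVec] at h1
  rw [key g hg, ← map_cyclotomic m (Int.castRingHom ℚ), key _ hMu, Matrix.mulVec_zero,
    Matrix.mulVec_zero, add_zero] at h1
  exact hu (funext fun i => by simpa [uq] using (congrFun h1 i).symm)

variable {M : Matrix (Fin tabE6.l) (Fin tabE6.l) ℤ}
  {r : ℕ} [Fact r.Prime] {α : ZMod r} {x : Fin tabE6.l → ZMod r}

theorem Eig.pow_twelve (e : Eig M α x) : M ^ 12 = 1 := by
  obtain ⟨-, -, hf⟩ := e.shape
  rw [← sub_eq_zero, show M ^ 12 - 1 =
      (M ^ 6 - M ^ 5 + M ^ 4 - M ^ 2 + M - 1) * (M ^ 6 + M ^ 5 - M ^ 3 + M + 1) by noncomm_ring,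
    hf, mul_zero]

/-- An isometry commuting with `M` and fixing the eigenvector is trivial. -/
theorem Eig.eq_one (e : Eig M α x) {E : Matrix (Fin tabE6.l) (Fin tabE6.l) ℤ}
    (hIE : Iso (cartanT tabE6) kKE6 E) (hc : E * M = M * E)
    (hxE : x ᵥ* E.map (Int.castRingHom (ZMod r)) = x) : E = 1 := by
  classical
  have hcE : Commute E M := hc
  have hG : ∀ i : ℕ, Eig (E ^ i * M) α x := fun i => by
    refine ⟨iso_mul (iso_pow hIE i) e.iso, e.big, e.ord, e.ne, ?_⟩
    rw [Matrix.map_mul, Matrix.map_pow, ← Matrix.vecMul_vecMul]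
    suffices h : x ᵥ* (E.map (Int.castRingHom (ZMod r))) ^ i = x by rw [h, e.eig]
    induction i with
    | zero => simp
    | succ i ih => rw [pow_succ, ← Matrix.vecMul_vecMul, ih, hxE]
  have hE12 : E ^ 12 = 1 := by
    have h1 := (hG 1).pow_twelve
    rwa [pow_one, hcE.mul_pow, e.pow_twelve, mul_one] at h1
  obtain ⟨hch, hmult, hf⟩ := e.shape
  -- no element of order three
  have h3 : ∀ G : Matrix (Fin tabE6.l) (Fin tabE6.l) ℤ, (∃ i, G = E ^ i) → G ^ 3 = 1 → G = 1 := by
    rintro G ⟨i, hGi⟩ hG3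
    have hcG : Commute G M := hGi ▸ hcE.pow_left i
    obtain ⟨-, -, f1⟩ := (hG i).shape
    obtain ⟨-, -, f2⟩ := (hG (i * 2)).shape
    rw [pow_mul E i 2, ← hGi] at f2
    rw [← hGi] at f1
    rw [hcG.mul_pow, hcG.mul_pow, hcG.mul_pow, show G ^ 6 = 1 by
      rw [show (6 : ℕ) = 3 * 2 from rfl, pow_mul, hG3, one_pow], show G ^ 5 = G ^ 2 by
      rw [show (5 : ℕ) = 3 + 2 from rfl, pow_add, hG3, one_mul], hG3, one_mul, one_mul] at f1
    have hcG2 : Commute (G ^ 2) M := hcG.pow_left 2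
    rw [hcG2.mul_pow, hcG2.mul_pow, hcG2.mul_pow, ← pow_mul, ← pow_mul, ← pow_mul,
      show G ^ (2 * 6) = 1 by rw [show 2 * 6 = 3 * 4 from rfl, pow_mul, hG3, one_pow],
      show G ^ (2 * 5) = G by
        rw [show 2 * 5 = 3 * 3 + 1 from rfl, pow_succ, pow_mul, hG3, one_pow, one_mul],
      show G ^ (2 * 3) = 1 by rw [show 2 * 3 = 3 * 2 from rfl, pow_mul, hG3, one_pow],
      one_mul, one_mul] at f2
    -- `(G ^ 2 - G) * (M ^ 5 - M) = 0`
    have h4 : (G ^ 2 - G) * (M ^ 4 - 1) * M = 0 := by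
      rw [← sub_self (0 : Matrix (Fin tabE6.l) (Fin tabE6.l) ℤ)]
      conv_rhs => arg 1; rw [← f1]
      conv_rhs => arg 2; rw [← f2]
      noncomm_ring
    have h5 : (G ^ 2 - G) * (M ^ 4 - 1) = 0 := by
      calc (G ^ 2 - G) * (M ^ 4 - 1) = (G ^ 2 - G) * (M ^ 4 - 1) * M * M ^ 11 := by
            rw [mul_assoc _ M, ← pow_succ', e.pow_twelve, mul_one]
        _ = 0 := by rw [h4, zero_mul]
    have h6 : (3 : ℤ) • (G ^ 2 - G) = 0 := by
      have hb : (M ^ 4 - 1) * (-(2 : ℤ) • 1 - M ^ 4) + (M ^ 6 + M ^ 5 - M ^ 3 + M + 1) * (1 - M + M ^ 2) =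
          (3 : ℤ) • (1 : Matrix (Fin tabE6.l) (Fin tabE6.l) ℤ) := by noncomm_ring
      have h7 := congrArg (fun X => (G ^ 2 - G) * X) hb
      simpa only [mul_add, ← mul_assoc, h5, zero_mul, hf, zero_add, mul_zero, add_zero, mul_smul_comm,
        mul_one] using h7.symm
    have h7 : G ^ 2 = G := sub_eq_zero.1 ((smul_eq_zero.1 h6).resolve_left (by norm_num))
    calc G = G ^ 3 * G := by rw [hG3, one_mul]
      _ = G ^ 2 * G ^ 2 := by noncomm_ring
      _ = G * G := by rw [h7]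
      _ = G ^ 2 * G ^ 1 * (G ^ 2) := by
        rw [← pow_add, ← pow_add, show 2 + 1 + 2 = 3 + 2 from rfl, pow_add, hG3, one_mul, pow_two]
      _ = G * G * G := by rw [h7, pow_one]
      _ = 1 := by rw [← hG3]; noncomm_ring
  -- no involution
  have h2 : ∀ G : Matrix (Fin tabE6.l) (Fin tabE6.l) ℤ, (∃ i, G = E ^ i) → G ^ 2 = 1 → G = 1 := by
    rintro G ⟨i, hGdef⟩ hG2
    have hcG : Commute G M := hGdef ▸ hcE.pow_left i
    have hxG : x ᵥ* G.map (Int.castRingHom (ZMod r)) = x := by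
      rw [hGdef, Matrix.map_pow]
      generalize i = j
      induction j with
      | zero => simp
      | succ j ih => rw [pow_succ, ← Matrix.vecMul_vecMul, ih, hxE]
    obtain ⟨-, -, f1⟩ := (hG i).shape
    rw [← hGdef] at f1
    rw [hcG.mul_pow, hcG.mul_pow, hcG.mul_pow, show G ^ 6 = 1 by
      rw [show (6 : ℕ) = 2 * 3 from rfl, pow_mul, hG2, one_pow], show G ^ 5 = G by
      rw [show (5 : ℕ) = 2 * 2 + 1 from rfl, pow_succ, pow_mul, hG2, one_pow, one_mul],
      show G ^ 3 = G by rw [pow_succ, hG2, one_mul], one_mul] at f1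
    set W := M ^ 4 - M ^ 2 + 1 with hW
    set Z := M ^ 2 + M + 1 with hZ
    have h4 : (G - 1) * W * M = 0 := by
      rw [← sub_self (0 : Matrix (Fin tabE6.l) (Fin tabE6.l) ℤ)]
      conv_rhs => arg 1; rw [← f1]
      conv_rhs => arg 2; rw [← hf]
      rw [hW]
      noncomm_ring
    have h5 : (G - 1) * W = 0 := by
      calc (G - 1) * W = (G - 1) * W * M * M ^ 11 := by
            rw [mul_assoc _ M, ← pow_succ', e.pow_twelve, mul_one]
        _ = 0 := by rw [h4, zero_mul]
    have hWZ : W * Z = 0 := by rw [← hf, hW, hZ]; noncomm_ring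
    by_cases hz : (G - 1) * Z = 0
    · have hb : W * -M - Z * (-M ^ 3 + M ^ 2 + M - (2 : ℤ) • 1) =
          (2 : ℤ) • (1 : Matrix (Fin tabE6.l) (Fin tabE6.l) ℤ) := by rw [hW, hZ]; noncomm_ring
      have h7 := congrArg (fun X => (G - 1) * X) hb
      simp only [mul_sub, ← mul_assoc, h5, hz, zero_mul, sub_zero, mul_smul_comm, mul_one] at h7
      exact sub_eq_zero.1 ((smul_eq_zero.1 h7.symm).resolve_left (by norm_num))
    exfalso
    have hcGZ : Commute G Z := by
      rw [hZ]; exact ((hcG.pow_right 2).add_right hcG).add_right (Commute.one_right G)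
    have hcWG : Commute W G := by
      rw [hW]
      exact (((hcG.pow_right 4).sub_right (hcG.pow_right 2)).add_right (Commute.one_right G)).symm
    have hne2 : (G + 1) * Z ≠ 0 := by
      intro h0
      have h8 : (x ᵥ* ((G + 1) * Z).map (Int.castRingHom (ZMod r))) =
          ((2 : ZMod r) * (α ^ 2 + α + 1)) • x := by
        rw [hZ, Matrix.map_mul, ← Matrix.vecMul_vecMul, Matrix.map_add (hf := map_add _),
          Matrix.map_one _ (map_zero _) (map_one _), Matrix.vecMul_add, hxG, Matrix.vecMul_one,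
          Matrix.map_add (hf := map_add _), Matrix.map_add (hf := map_add _),
          Matrix.map_one _ (map_zero _) (map_one _), Matrix.map_pow, Matrix.add_vecMul,
          Matrix.vecMul_add, Matrix.vecMul_add, Matrix.vecMul_one, pow_two,
          ← Matrix.vecMul_vecMul, e.eig, Matrix.smul_vecMul, e.eig, smul_smul]
        module
      rw [h0, Matrix.map_zero _ (map_zero _), Matrix.vecMul_zero, eq_comm] at h8
      rcases mul_eq_zero.1 ((smul_eq_zero.1 h8).resolve_right e.ne) with h | h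
      · have h1 : ((2 : ℕ) : ZMod r) = 0 := by exact_mod_cast h
        have := Nat.le_of_dvd (by norm_num) ((ZMod.natCast_eq_zero_iff _ _).1 h1)
        have := e.big
        omega
      · have h1 : α ^ 3 = 1 := by linear_combination (α - 1) * h
        have := Nat.le_of_dvd (by norm_num) (e.ord ▸ orderOf_dvd_of_pow_eq_one h1)
        omega
    have exv : ∀ Y : Matrix (Fin tabE6.l) (Fin tabE6.l) ℤ, Y ≠ 0 → ∃ y, Y *ᵥ y ≠ 0 := by
      intro Y hY
      by_contra hy
      push Not at hy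
      exact hY (Matrix.ext fun p q => by simpa using congrFun (hy (Pi.single q 1)) p)
    obtain ⟨y₁, hy₁⟩ := exv _ hz
    obtain ⟨y₂, hy₂⟩ := exv _ hne2
    set u := ((G - 1) * Z) *ᵥ y₁ with hu
    set w := ((G + 1) * Z) *ᵥ y₂ with hw
    have hWu : W *ᵥ u = 0 := by
      rw [hu, Matrix.mulVec_mulVec, ← mul_assoc, (hcWG.sub_right (Commute.one_right W)).eq,
        mul_assoc, hWZ, mul_zero, Matrix.zero_mulVec]
    have hWw : W *ᵥ w = 0 := by
      rw [hw, Matrix.mulVec_mulVec, ← mul_assoc, (hcWG.add_right (Commute.one_right W)).eq,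
        mul_assoc, hWZ, mul_zero, Matrix.zero_mulVec]
    have hGu : G *ᵥ u = -u := by
      rw [hu, Matrix.mulVec_mulVec, ← mul_assoc, show G * (G - 1) = G ^ 2 - G by noncomm_ring, hG2, ← neg_sub G 1,
        neg_mul, Matrix.neg_mulVec]
    have hGw : G *ᵥ w = w := by
      rw [hw, Matrix.mulVec_mulVec, ← mul_assoc, show G * (G + 1) = G ^ 2 + G by noncomm_ring, hG2, add_comm]
    have hann : ∀ v, v ≠ 0 → W *ᵥ v = 0 → ∀ c₀ c₁ c₂ c₃ : ℤ,
        c₀ • v + c₁ • (M *ᵥ v) + c₂ • ((M ^ 2) *ᵥ v) + c₃ • ((M ^ 3) *ᵥ v) = 0 →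
          c₀ = 0 ∧ c₁ = 0 ∧ c₂ = 0 ∧ c₃ = 0 := by
      intro v hv hWv c₀ c₁ c₂ c₃ h0
      set g : ℤ[X] := Polynomial.C c₀ + Polynomial.C c₁ * Polynomial.X + Polynomial.C c₂ * Polynomial.X ^ 2 +
        Polynomial.C c₃ * Polynomial.X ^ 3 with hg
      have hg0 : g = 0 := by
        refine ann_zero (M := M) (m := 12) (by norm_num) hv ?_ ?_ ?_
        · rw [cyclotomic_twelve]; simpa [hW] using hWv
        · have : Nat.totient 12 = 4 := by decide
          rw [this, hg]
          refine Nat.lt_succ_of_le ?_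
          compute_degree
        · rw [hg]
          simp only [map_add, map_mul, map_pow, aeval_C, aeval_X, Algebra.algebraMap_eq_smul_one,
            smul_mul_assoc, one_mul, Matrix.add_mulVec, Matrix.smul_mulVec, Matrix.one_mulVec]
          exact h0
      refine ⟨?_, ?_, ?_, ?_⟩
      · simpa [hg, -eq_intCast, -map_intCast, coeff_C] using congrArg (fun p => p.coeff 0) hg0
      · simpa [hg, -eq_intCast, -map_intCast, coeff_C] using congrArg (fun p => p.coeff 1) hg0
      · simpa [hg, -eq_intCast, -map_intCast, coeff_C] using congrArg (fun p => p.coeff 2) hg0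
      · simpa [hg, -eq_intCast, -map_intCast, coeff_C] using congrArg (fun p => p.coeff 3) hg0
    let col : Fin 6 → Fin tabE6.l → ℤ :=
      ![u, M *ᵥ u, (M ^ 2) *ᵥ u, (M ^ 3) *ᵥ u, w, M *ᵥ w]
    let V : Matrix (Fin tabE6.l) (Fin tabE6.l) ℤ := Matrix.of fun p q => col q p
    let V' : Matrix (Fin 6) (Fin 6) ℤ := Matrix.of fun p q => col q p
    have hV : V'.det ≠ 0 := by
      intro h0
      obtain ⟨c, hc0, hVc⟩ := Matrix.exists_mulVec_eq_zero_iff.2 h0
      have hsum : c 0 • u + c 1 • (M *ᵥ u) + c 2 • ((M ^ 2) *ᵥ u) + c 3 • ((M ^ 3) *ᵥ u) +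
          (c 4 • w + c 5 • (M *ᵥ w)) = 0 := by
        funext p
        refine Eq.trans ?_ (congrFun hVc p)
        show _ = ∑ q : Fin 6, col q p * c q
        simp [col, Fin.sum_univ_six, Matrix.mulVec, dotProduct]
        ring
      have hGM : ∀ j : ℕ, ∀ v, G *ᵥ ((M ^ j) *ᵥ v) = (M ^ j) *ᵥ (G *ᵥ v) := fun j v => by
        rw [Matrix.mulVec_mulVec, (hcG.pow_right j).eq, ← Matrix.mulVec_mulVec]
      have hGM1 : ∀ v, G *ᵥ (M *ᵥ v) = M *ᵥ (G *ᵥ v) := fun v => by simpa using hGM 1 v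
      have hsum2 := congrArg (fun v => G *ᵥ v) hsum
      simp only [Matrix.mulVec_add, Matrix.mulVec_smul, hGM, hGM1, hGu, hGw, Matrix.mulVec_neg,
        Matrix.mulVec_zero, smul_neg] at hsum2
      have hw0 : c 4 • w + c 5 • (M *ᵥ w) = 0 := by
        have h2 : (2 : ℤ) • (c 4 • w + c 5 • (M *ᵥ w)) = 0 := by
          rw [two_smul]
          linear_combination (norm := module) hsum + hsum2
        exact (smul_eq_zero.1 h2).resolve_left (by norm_num)
      rw [hw0, add_zero] at hsum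
      obtain ⟨a0, a1, a2, a3⟩ := hann u hy₁ hWu _ _ _ _ hsum
      obtain ⟨a4, a5, -, -⟩ := hann w hy₂ hWw (c 4) (c 5) 0 0 (by
        rw [zero_smul, zero_smul, add_zero, add_zero]; exact hw0)
      exact hc0 (funext fun q => by fin_cases q <;> assumption)
    have hWcol : ∀ q, W *ᵥ col q = 0 := by
      have hWM : ∀ j : ℕ, ∀ v, W *ᵥ v = 0 → W *ᵥ ((M ^ j) *ᵥ v) = 0 := fun j v hv => by
        rw [Matrix.mulVec_mulVec, (show Commute W (M ^ j) by rw [hW]; exact (((Commute.refl M).pow_pow 4 j).sub_left ((Commute.refl M).pow_pow 2 j)).add_left (Commute.one_left _)).eq,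
          ← Matrix.mulVec_mulVec, hv, Matrix.mulVec_zero]
      intro q
      fin_cases q
      · exact hWu
      · show W *ᵥ (M *ᵥ u) = 0
        have := hWM 1 u hWu
        rwa [pow_one] at this
      · exact hWM 2 u hWu
      · exact hWM 3 u hWu
      · exact hWw
      · show W *ᵥ (M *ᵥ w) = 0
        have := hWM 1 w hWw
        rwa [pow_one] at this
    have hWV : W * V = 0 := Matrix.ext fun p q => congrFun (hWcol q) p
    have hW0 : W = 0 := by
      have h2 : V * V.adjugate = V.det • (1 : Matrix (Fin tabE6.l) (Fin tabE6.l) ℤ) :=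
        Matrix.mul_adjugate V
      have h1 := congrArg (fun X => X * V.adjugate) hWV
      simp only [mul_assoc, h2, zero_mul, mul_smul_comm, mul_one] at h1
      exact (smul_eq_zero.1 h1).resolve_left hV
    -- but `W` is not zero
    have h9 : (Matrix.scalar (Fin tabE6.l) (1 : ℤ) - M).det = 3 := by
      rw [← Matrix.eval_charpoly, hch, cyclotomic_twelve]; simp
    have h10 : (1 - M) * (M ^ 3 + M ^ 2) = (1 : Matrix (Fin tabE6.l) (Fin tabE6.l) ℤ) := by
      rw [show (1 - M) * (M ^ 3 + M ^ 2) = 1 - W by rw [hW]; noncomm_ring, hW0, sub_zero]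
    have h11 := congrArg Matrix.det h10
    rw [Matrix.det_mul, Matrix.det_one, show (1 - M) = Matrix.scalar (Fin tabE6.l) (1 : ℤ) - M by
      rw [map_one], h9] at h11
    omega
  have e4 : E ^ 4 = 1 := h3 _ ⟨4, rfl⟩ (by rw [← pow_mul, hE12])
  have e2 : E ^ 2 = 1 := h2 _ ⟨2, rfl⟩ (by rw [← pow_mul, e4])
  exact h2 E ⟨1, (pow_one E).symm⟩ e2

end CfsgLib.Chev.CycTorus
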