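import Cfsg.Agent.Lib.Chev.CycTorus.Common
import Cfsg.Agent.Lib.Chev.CycTorus.FixE6
import Cfsg.Agent.Lib.Chev.SylowTorus.Types
import Cfsg.Agent.Lib.Chev.GTorus.Types

/-!
Twisting data for the torus of type `Φ₁₂ Φ₃` in E6.
-/

set_option autoImplicit false
set_option maxRecDepth 100000
set_option maxHeartbeats 1000000

namespace CfsgLib.Chev.CycTorus

open Cfsg.Lie Matrix Polynomial CfsgLib.Chev.Cert CfsgLib.Chev.GTorus CfsgLib.Chev.SylowTorus

theorem nbrE6 : Rel.Nbr tabE6 := by unfold Rel.Nbr; decide +kernel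

/-- The complement of the first row. -/
noncomputable def detYE6 : Matrix (Fin tabE6.l) (Fin tabE6.l) ℤ :=
  fun i j => (kKE6 i j - kUE6 i * kKE6 ⟨0, by decide⟩ j) / 3

theorem detectsE6 : Detects certE6 nbrE6 :=
  detects_of_minRep certE6 nbrE6 minE6 minE6_sq minE6_n minE6_move minE6_base (i₀ := 0)
    (by decide +kernel) minE6_top detYE6 kUE6 (by decide +kernel)

theorem inverseE6 : kKE6 * cartanT tabE6 = ((3 : ℕ) : ℤ) • 1 := by exact_mod_cast evE6.inv

theorem symmE6 : (cartanT tabE6)ᵀ = cartanT tabE6 := by decide +kernel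

theorem card_kerE6 {K : Type*} [Field K] [Fintype K] :
    Nat.card (matHom (G := Kˣ) (cartanT tabE6)).ker = Nat.gcd 3 (Fintype.card K - 1) := by
  classical
  rw [CfsgLib.Chev.card_ker_matHom (cartanT tabE6) (matOf _ snfUE6) (matOf _ snfUiE6)
    (matOf _ snfVE6) (matOf _ snfViE6) (fun i => [1, 1, 1, 1, 1, 3].getD i.1 0) (by decide +kernel)
    (by decide +kernel) (by decide +kernel), Nat.card_eq_fintype_card, Fintype.card_units]
  show ∏ i : Fin 6, Nat.gcd (Fintype.card K - 1) ([1, 1, 1, 1, 1, 3].getD i.1 0) = _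
  simp [Fin.prod_univ_succ, Nat.gcd_comm (Fintype.card K - 1)]

theorem rootsE6 : ∀ s < tabE6.n,
    kKE6 *ᵥ carV tabE6 s = (3 : ℤ) • (fun i => (kKE6 *ᵥ carV tabE6 s) i / 3) ∧
      qf kKE6 (carV tabE6 s) = 6 := by
  decide +kernel

/-- The value of the characteristic polynomial. -/
def valE6 (t : ℤ) : ℤ := (t ^ 4 - t ^ 2 + 1) * (t ^ 2 + t + 1)

theorem eval_cyclotomic_twelve (t : ℤ) : (cyclotomic 12 ℤ).eval t = t ^ 4 - t ^ 2 + 1 := by
  simp [cyclotomic_twelve]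

theorem valE6_pos (t : ℤ) : 0 < valE6 t := by
  unfold valE6
  exact mul_pos (by nlinarith [sq_nonneg (2 * t ^ 2 - 1)]) (by nlinarith [sq_nonneg (2 * t + 1)])

theorem valE6_dvd (t : ℤ) : valE6 t ∣ t ^ 12 - 1 :=
  ⟨(t - 1) * (t ^ 3 + 1) * (t ^ 2 + 1), by unfold valE6; ring⟩

theorem mod_twelve (x : ℤ) :
    ¬ (2 : ℤ) ∣ x ^ 4 - x ^ 2 + 1 ∧ ¬ (3 : ℤ) ∣ x ^ 4 - x ^ 2 + 1 := by
  constructor
  · have key : ∀ z : ZMod 2, z ^ 4 - z ^ 2 + 1 ≠ 0 := by decide
    intro hd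
    refine key (x : ZMod 2) ?_
    have := (ZMod.intCast_zmod_eq_zero_iff_dvd _ 2).2 (by exact_mod_cast hd)
    push_cast at this
    exact this
  · have key : ∀ z : ZMod 3, z ^ 4 - z ^ 2 + 1 ≠ 0 := by decide
    intro hd
    refine key (x : ZMod 3) ?_
    have := (ZMod.intCast_zmod_eq_zero_iff_dvd _ 3).2 (by exact_mod_cast hd)
    push_cast at this
    exact this

theorem mod_three (x : ℤ) : ¬ (2 : ℤ) ∣ x ^ 2 + x + 1 ∧ ¬ (9 : ℤ) ∣ x ^ 2 + x + 1 := by
  constructor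
  · have key : ∀ z : ZMod 2, z ^ 2 + z + 1 ≠ 0 := by decide
    intro hd
    refine key (x : ZMod 2) ?_
    have := (ZMod.intCast_zmod_eq_zero_iff_dvd _ 2).2 (by exact_mod_cast hd)
    push_cast at this
    exact this
  · have key : ∀ z : ZMod 9, z ^ 2 + z + 1 ≠ 0 := by decide
    intro hd
    refine key (x : ZMod 9) ?_
    have := (ZMod.intCast_zmod_eq_zero_iff_dvd _ 9).2 (by exact_mod_cast hd)
    push_cast at this
    exact this

/-- At every prime the value or its translate has no square factor. -/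
theorem exists_shift {p : ℕ} (hp : p.Prime) (t : ℤ) :
    ∃ s : ℤ, (p : ℤ) ∣ t - s ∧ ¬ (p : ℤ) ^ 2 ∣ valE6 s := by
  by_cases hd : (p : ℤ) ^ 2 ∣ valE6 t
  swap
  · exact ⟨t, by simp, hd⟩
  refine ⟨t + p, ⟨-1, by ring⟩, ?_⟩
  have hpi : Prime (p : ℤ) := Nat.prime_iff_prime_int.1 hp
  have hp2 : p ≠ 2 := by
    rintro rfl
    rcases hpi.dvd_mul.1 ((dvd_pow_self ((2 : ℕ) : ℤ) two_ne_zero).trans hd) with e | e
    · exact (mod_twelve t).1 (by exact_mod_cast e)
    · exact (mod_three t).1 (by exact_mod_cast e)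
  have hp3 : p ≠ 3 := by
    rintro rfl
    have hco : IsCoprime (9 : ℤ) (t ^ 4 - t ^ 2 + 1) := by
      have h3 : IsCoprime (3 : ℤ) (t ^ 4 - t ^ 2 + 1) :=
        (Int.prime_three.coprime_iff_not_dvd).2 (mod_twelve t).2
      simpa [show (9 : ℤ) = 3 * 3 by norm_num] using h3.mul_left h3
    exact (mod_three t).2 (hco.dvd_of_dvd_mul_left (by simpa [valE6] using hd))
  have hnot : ∀ x : ℤ, (p : ℤ) ∣ x ^ 2 + x + 1 → ¬ (p : ℤ) ∣ x ^ 4 - x ^ 2 + 1 := by
    intro x h1 h2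
    have h4 : (p : ℤ) ∣ 4 := by
      have e : (4 : ℤ) = (x ^ 4 - x ^ 2 + 1) * (-2 * x) - (x ^ 2 + x + 1) *
          (-2 * x ^ 3 + 2 * x ^ 2 + 2 * x - 4) := by ring
      rw [e]
      exact dvd_sub (h2.mul_right _) (h1.mul_right _)
    have h5 : p ∣ 2 ^ 2 := by exact_mod_cast h4
    exact hp2 ((Nat.prime_dvd_prime_iff_eq hp Nat.prime_two).1 (hp.dvd_of_dvd_pow h5))
  have hcong : ∀ f : ℤ[X], (p : ℤ) ∣ f.eval (t + p) → (p : ℤ) ∣ f.eval t := fun f hf => by
    have h1 : (p : ℤ) ∣ f.eval (t + p) - f.eval t := by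
      simpa using f.sub_dvd_eval_sub (t + p) t
    simpa using dvd_sub hf h1
  have h12 : ∀ x : ℤ, (cyclotomic 12 ℤ).eval x = x ^ 4 - x ^ 2 + 1 := eval_cyclotomic_twelve
  have h3 : ∀ x : ℤ, (cyclotomic 3 ℤ).eval x = x ^ 2 + x + 1 := fun x => by simp [cyclotomic_three]
  intro hd'
  unfold valE6 at hd hd'
  rw [← h12, ← h3] at hd hd'
  rcases hpi.dvd_mul.1 ((dvd_pow_self (p : ℤ) two_ne_zero).trans hd) with e | e
  · have e3 : ¬ (p : ℤ) ∣ (cyclotomic 3 ℤ).eval t := fun e' =>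
      hnot t (by rwa [← h3]) (by rwa [← h12])
    refine not_sq_dvd_eval_add hp (m := 12) (fun hm => ?_) t
      (hpi.pow_dvd_of_dvd_mul_right 2 e3 hd)
      (hpi.pow_dvd_of_dvd_mul_right 2 (fun e' => e3 (hcong _ e')) hd')
    have h5 : p ∣ 2 ^ 2 * 3 := hm
    rcases hp.dvd_mul.1 h5 with h6 | h6
    · exact hp2 ((Nat.prime_dvd_prime_iff_eq hp Nat.prime_two).1 (hp.dvd_of_dvd_pow h6))
    · exact hp3 ((Nat.prime_dvd_prime_iff_eq hp Nat.prime_three).1 h6)
  · have e12 : ¬ (p : ℤ) ∣ (cyclotomic 12 ℤ).eval t := fun e' =>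
      hnot t (by rwa [← h3]) (by rwa [← h12])
    exact not_sq_dvd_eval_add hp (m := 3)
      (fun hm => hp3 ((Nat.prime_dvd_prime_iff_eq hp Nat.prime_three).1 hm)) t
      (hpi.pow_dvd_of_dvd_mul_left 2 e12 hd)
      (hpi.pow_dvd_of_dvd_mul_left 2 (fun e' => e12 (hcong _ e')) hd')

theorem det_scalar_sub {M : Matrix (Fin tabE6.l) (Fin tabE6.l) ℤ}
    (hc : M.charpoly = cyclotomic 12 ℤ * (Polynomial.X ^ 2 + Polynomial.X + 1)) (t : ℤ) :
    (Matrix.scalar (Fin tabE6.l) t - Mᵀ).det = valE6 t := by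
  rw [← Matrix.eval_charpoly, Matrix.charpoly_transpose, hc]
  simp [valE6, cyclotomic_twelve]

variable {F : Type*} [Field F] [Fintype F]

/-- An element over a large field twisting the Frobenius by a monomial element of type `Φ₁₂ Φ₃`, with a regular
element of prime order. -/
structure TwistE6 (L : Type) [Field L] (f : F →+* L) (σ : L →+* L) where
  gg : GL chevE6.Idx L
  mem : gg ∈ chevE6.group L
  r : ℕ
  hr : r.Prime
  big : 13 ≤ r
  α : ZMod r
  x : Fin tabE6.l → ZMod r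
  ω : Lˣ
  hω : orderOf ω = r
  X : Fin tabE6.l → ℤ
  hx : x = fun i => (X i : ZMod r)
  s₀ : ↥(chevE6.group F)
  hk : gg * mapGL chevE6 f (s₀ : GL chevE6.Idx F) * gg⁻¹ =
    Cert.torusHom (D := chevE6) (T := tabE6) fun i => ω ^ X i
  mono : mapGL chevE6 σ gg * gg⁻¹ ∈ chevE6.monomialSubgroup L
  regular : ∀ z ∈ chevE6.group L,
    z * (Cert.torusHom (D := chevE6) (T := tabE6) fun i => ω ^ X i) =
      (Cert.torusHom (D := chevE6) (T := tabE6) fun i => ω ^ X i) * z →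
    z ∈ chevE6.monomialSubgroup L
  M : Matrix (Fin tabE6.l) (Fin tabE6.l) ℤ
  acts : Acts chevE6 tabE6 (mapGL chevE6 σ gg * gg⁻¹)⁻¹ M
  eig : ∀ [Fact r.Prime], Eig M α x

/-- Such data exist over the extension of degree twelve. -/
theorem nonempty_twistE6 {L : Type} [Field L] [Fintype L] (hQq : Fintype.card L = Fintype.card F ^ 12)
    (f : F →+* L) (σ : L →+* L) (hσ : ∀ x, σ x = x ^ Fintype.card F) :
    Nonempty (TwistE6 (F := F) L f σ) := by
  classical
  set q := Fintype.card F with hq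
  have hq2 : 2 ≤ q := Fintype.one_lt_card
  -- the prime
  set N₀ := ((cyclotomic 12 ℤ).eval (q : ℤ)).natAbs with hN₀
  have hN0 : 12 < N₀ := by
    have h1 : (12 : ℤ) < (cyclotomic 12 ℤ).eval (q : ℤ) := by
      rw [eval_cyclotomic_twelve]
      have : (2 : ℤ) ≤ q := by exact_mod_cast hq2
      have h4 : (4 : ℤ) ≤ (q : ℤ) ^ 2 := by nlinarith
      nlinarith
    omega
  obtain ⟨r, hr, hr12, hrN⟩ := exists_prime_not_dvd (m := 12) (by norm_num) hN0 fun p hp hp12 hd => by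
    have hp' : p = 2 ∨ p = 3 := by
      have h5 : p ∣ 2 ^ 2 * 3 := hp12
      rcases hp.dvd_mul.1 h5 with h6 | h6
      · exact .inl ((Nat.prime_dvd_prime_iff_eq hp Nat.prime_two).1 (hp.dvd_of_dvd_pow h6))
      · exact .inr ((Nat.prime_dvd_prime_iff_eq hp Nat.prime_three).1 h6)
    have hd1 : (p : ℤ) ∣ (cyclotomic 12 ℤ).eval (q : ℤ) := by
      rw [← Int.dvd_natAbs, Int.natCast_dvd_natCast]
      exact (dvd_pow_self p two_ne_zero).trans hd
    rw [eval_cyclotomic_twelve] at hd1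
    rcases hp' with rfl | rfl
    · exact (mod_twelve q).1 (by exact_mod_cast hd1)
    · exact (mod_twelve q).2 (by exact_mod_cast hd1)
  have : Fact r.Prime := ⟨hr⟩
  have hrE : (r : ℤ) ∣ (cyclotomic 12 ℤ).eval (q : ℤ) := by
    rw [← Int.dvd_natAbs]; exact_mod_cast hrN
  have hr13 : 13 ≤ r := lt_of_dvd_eval hr hr12 (by norm_num) hrE
  have hr3 : r.Coprime 3 := (Nat.coprime_primes hr Nat.prime_three).2 (by omega)
  have hprim : IsPrimitiveRoot (q : ZMod r) 12 := by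
    have : NeZero ((12 : ℕ) : ZMod r) := ⟨fun e => hr12 ((ZMod.natCast_eq_zero_iff _ _).1 e)⟩
    refine isRoot_cyclotomic_iff.1 ?_
    rw [← map_cyclotomic_int, IsRoot, ← Int.cast_natCast (R := ZMod r) q,
      ← eq_intCast (Int.castRingHom (ZMod r)) (q : ℤ), Polynomial.eval_map_apply, eq_intCast,
      ZMod.intCast_zmod_eq_zero_iff_dvd]
    exact hrE
  have hqo : orderOf (q : ZMod r) = 12 := hprim.eq_orderOf.symm
  -- an element of order `r`
  have hrq : r ∣ q ^ 12 - 1 := GTorus.dvd_pow_sub_one (by omega) dvd_rfl hrE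
  have hg3 : ∀ g : ℕ, g ∣ 3 ^ 2 → ¬ r ∣ g := fun g hg hd => by
    have h1 := (Nat.prime_dvd_prime_iff_eq hr Nat.prime_three).1 (hr.dvd_of_dvd_pow (hd.trans hg))
    omega
  have hrG : r ∣ Nat.card ↥(chevE6.group F) := by
    obtain ⟨g, hg, eG, -⟩ := (orderOK_E6 (F := F)).ex
    refine (hr.dvd_mul.1 (?_ : r ∣ g * _)).resolve_left (hg3 g hg)
    rw [eG]
    exact dvd_mul_of_dvd_right (hrq.trans (List.dvd_prod
      (List.mem_map.2 ⟨12, by simp, rfl⟩))) _
  set Q := Fintype.card L with hQ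
  have hQ1 : (Q : ZMod r) = 1 := by rw [hQq, Nat.cast_pow, ← hqo, pow_orderOf_eq_one]
  have hσfix : ∀ x, σ x = x ↔ ∃ y, f y = x := fun x => by rw [hσ]; exact mem_range_iff_pow f x
  have hσf : ∀ g : GL chevE6.Idx F, mapGL chevE6 σ (mapGL chevE6 f g) = mapGL chevE6 f g := fun g =>
    (mapGL_eq_self_iff chevE6 σ _).2 fun i j => (hσfix _).2 ⟨_, rfl⟩
  have hidx : ¬ r ∣ (chevE6.diagonalSubgroup L).relIndex (chevE6.group L) := by
    obtain ⟨g, -, eG, eD⟩ := (orderOK_E6 (F := L)).ex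
    refine not_dvd_relIndex_of certE6.diagonal_le_group hr (Fintype.one_lt_card) hQ1 eG eD ?_
    intro d hd hrd
    simp only [List.mem_cons, List.not_mem_nil, or_false] at hd
    have h0 : 0 < d := by omega
    have := Nat.le_of_dvd h0 hrd
    omega
  obtain ⟨s₀, hs₀⟩ := exists_prime_orderOf_dvd_card' r hrG
  let sL : ↥(chevE6.group L) := ⟨mapGL chevE6 f s₀, certE6.map_mem_group f s₀.2⟩
  have hsr : sL ^ r = 1 := by
    refine Subtype.ext ?_
    show mapGL chevE6 f (s₀ : GL chevE6.Idx F) ^ r = 1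
    rw [← map_pow, ← SubgroupClass.coe_pow, ← hs₀, pow_orderOf_eq_one]
    exact map_one _
  obtain ⟨g, hg⟩ := exists_conj_mem ((chevE6.diagonalSubgroup L).subgroupOf (chevE6.group L))
    hidx hsr
  rw [Subgroup.mem_subgroupOf] at hg
  set gg : GL chevE6.Idx L := (g : GL chevE6.Idx L) with hgg
  set sF : GL chevE6.Idx L := mapGL chevE6 f (s₀ : GL chevE6.Idx F) with hsF
  set k := gg * sF * gg⁻¹ with hk
  have hkd : k ∈ chevE6.diagonalSubgroup L := hg
  have hs1 : sF ≠ 1 := by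
    intro e1
    have : (s₀ : GL chevE6.Idx F) = 1 := mapGL_injective chevE6 f (by rw [map_one]; exact e1)
    rw [show s₀ = 1 from Subtype.ext this, orderOf_one] at hs₀
    exact hr.ne_one hs₀.symm
  have hkr : k ^ r = 1 := by
    rw [hk, conj_pow, show sF ^ r = 1 from congrArg Subtype.val hsr, mul_one, mul_inv_cancel]
  obtain ⟨c, hcr, hc⟩ := exists_torusHom_root certE6 inverseE6 hr3 hr.one_lt hkd hkr
  -- a root of unity
  have hrQ : r ∣ Nat.card Lˣ := by
    rw [Nat.card_units, Nat.card_eq_fintype_card, ← ZMod.natCast_eq_zero_iff,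
      Nat.cast_sub Fintype.card_pos, ← hQ, hQ1, Nat.cast_one, sub_self]
  obtain ⟨ω, hω⟩ := exists_prime_orderOf_dvd_card' r hrQ
  have hω' : IsPrimitiveRoot (ω : L) r := by
    rw [IsPrimitiveRoot.iff_orderOf, orderOf_units, hω]
  have hcX : ∀ i, ∃ X : ℤ, ω ^ X = c i := fun i => by
    obtain ⟨j, -, hj⟩ := hω'.eq_pow_of_pow_eq_one (ξ := (c i : L))
      (by rw [← Units.val_pow_eq_pow_val, show c i ^ r = 1 from congrFun hcr i, Units.val_one])
    exact ⟨j, Units.ext (by rw [zpow_natCast, Units.val_pow_eq_pow_val, hj])⟩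
  choose X hX using hcX
  have hcX : c = fun i => ω ^ X i := funext fun i => (hX i).symm
  set x : Fin tabE6.l → ZMod r := fun i => (X i : ZMod r) with hx
  have hx0 : x ≠ 0 := by
    intro e0
    refine hs1 ?_
    have hc1 : c = 1 := funext fun i => by
      rw [hcX, Pi.one_apply, ← orderOf_dvd_iff_zpow_eq_one, hω, ← ZMod.intCast_zmod_eq_zero_iff_dvd]
      exact congrFun e0 i
    rw [hc1, map_one] at hc
    exact conj_eq_one_iff.1 hc.symm
  have hkσ : mapGL chevE6 σ k =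
      Cert.torusHom (D := chevE6) (T := tabE6) fun i => ω ^ ((q : ℤ) * X i) := by
    rw [← hc, mapGL_torusHom]
    congr 1
    funext i
    refine Units.ext ?_
    rw [hcX, mul_comm, _root_.zpow_mul, zpow_natCast, Units.coe_map, Units.val_pow_eq_pow_val]
    exact hσ _
  -- monomial elements carrying `σ k` to `k`
  have haux : ∀ n ∈ chevE6.monomialSubgroup L, n * mapGL chevE6 σ k * n⁻¹ = k →
      ∃ M, Acts chevE6 tabE6 n M ∧ Eig M (q : ZMod r) x := by
    intro n hn hnk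
    obtain ⟨w, hw, hM⟩ := exists_acts_word certE6 hn
    refine ⟨_, hM, iso_word refl_isoE6 hw, hr13, hqo, hx0, ?_⟩
    have h2 := vecMul_of_conj_of certE6 inverseE6 hr3 hω hn hM X (q : ℤ)
      (by rw [← hkσ, hnk, ← hc, hcX])
    rwa [Int.cast_natCast] at h2
  set y := mapGL chevE6 σ gg * gg⁻¹ with hy
  have hyg : y ∈ chevE6.group L := mul_mem (certE6.map_mem_group σ g.2) (inv_mem g.2)
  have hσk : mapGL chevE6 σ k = y * k * y⁻¹ := by
    rw [hy, hk, map_mul, map_mul, map_inv, hσf, ← hsF]; group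
  obtain ⟨n₀, hn₀, hn₀k⟩ := certE6.diag_conj_in_monomial (certE6.map_mem_diagonal σ hkd) hkd
    (inv_mem hyg) (by rw [hσk]; group)
  obtain ⟨M₀, -, he₀⟩ := haux n₀ hn₀ hn₀k
  have hne : ∀ s < tabE6.n, charOf tabE6 (Cert.extC tabE6 c) s ≠ 1 := by
    intro s hs e1
    obtain ⟨hu, hqs⟩ := rootsE6 s hs
    refine he₀.regular hu hqs ?_
    rw [hcX, charOf_zpow, Units.val_eq_one, ← orderOf_dvd_iff_zpow_eq_one, hω,
      ← ZMod.intCast_zmod_eq_zero_iff_dvd] at e1
    simpa [dotProduct, hx] using e1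
  have hmono : ∀ z ∈ chevE6.group L, z * k = k * z → z ∈ chevE6.monomialSubgroup L :=
    fun z hz e1 => mem_monomial_of_commute certE6 (c := Cert.extC tabE6 c)
      (fun i _ => Cert.extC_ne_zero c i) (by rw [← hc]; rfl) hne hz e1.symm
  have hym : y ∈ chevE6.monomialSubgroup L := by
    have h1 : n₀ * y ∈ chevE6.monomialSubgroup L :=
      hmono _ (mul_mem (certE6.monomial_le_group hn₀) hyg) (by
        calc n₀ * y * k = n₀ * (y * k * y⁻¹) * n₀⁻¹ * (n₀ * y) := by group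
          _ = k * (n₀ * y) := by rw [← hσk, hn₀k])
    have h2 := mul_mem (inv_mem hn₀) h1
    rwa [inv_mul_cancel_left] at h2
  obtain ⟨M, hM, he⟩ := haux y⁻¹ (inv_mem hym) (by rw [hσk]; group)
  refine ⟨⟨gg, g.2, r, hr, hr13, (q : ZMod r), x, ω, hω, X, rfl, s₀, ?_, hym, ?_, M, hM, he⟩⟩
  · rw [← hcX, hc]
  · rw [← hcX, hc]; exact hmono

end CfsgLib.Chev.CycTorus
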