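import Cfsg.Agent.Lib.Chev.CycTorus.Common
import Cfsg.Agent.Lib.Chev.CycTorus.TwistE6
import Cfsg.Agent.Lib.Chev.SylowTorus.Data

/-!
The cover of E6 maps to the group of type E7.
-/

set_option autoImplicit false
set_option maxRecDepth 100000
set_option maxHeartbeats 1000000

namespace CfsgLib.Chev.CycTorus

open Cfsg.Lie Matrix CfsgLib.Chev.Cert CfsgLib.Chev.GTorus

/-- The roots of E6 among those of E7. -/
def iotaE : List ℕ := [6, 10, 13, 15, 16, 19, 21, 22, 24, 25, 26, 28, 29, 30, 31, 32, 35, 37, 38, 40, 41, 42, 44, 45, 46, 47, 49, 50, 51, 52, 54, 55, 56, 58, 59, 61, 64, 66, 67, 69, 70, 71, 73, 74, 75, 76, 78, 79, 80, 81, 83, 84, 85, 87, 88, 90, 93, 94, 95, 96, 97, 99, 100, 101, 103, 104, 106, 109, 110, 112, 115, 119]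

/-- The embedding of root indices. -/
def iota (r : ℕ) : ℕ := iotaE.getD r 0

theorem iota_lt : ∀ r < tabE6.n, iota r < tabE7.n ∧ iota (tabE6.neg r) = tabE7.neg (iota r) := by
  decide +kernel

theorem iota_simple : ∀ i < tabE6.l, iota (tabE6.simple i) = tabE7.simple i := by decide +kernel

theorem iota_ne : ∀ r < tabE6.n, ∀ s < tabE6.n, iota r = iota s → r = s := by decide +kernel

theorem iota_comm_check : ((List.range tabE6.n).all fun r => (List.range tabE6.n).all fun s =>
    decide (s = r) || decide (s = tabE6.neg r) ||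
      decide (tabE7.commTerms (iota r) (iota s) =
        (tabE6.commTerms r s).map fun c => (iota c.1, c.2))) = true := by
  decide +kernel

theorem iota_comm (r : ℕ) (hr : r < tabE6.n) (s : ℕ) (hs : s < tabE6.n) (hne : s ≠ r)
    (hneg : s ≠ tabE6.neg r) :
    tabE7.commTerms (iota r) (iota s) = (tabE6.commTerms r s).map fun c => (iota c.1, c.2) := by
  have h := iota_comm_check
  simp only [List.all_eq_true, List.mem_range, Bool.or_eq_true, decide_eq_true_eq] at h
  exact ((h r hr s hs).resolve_left (by tauto))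

variable {K : Type*} [Field K]

theorem emb_rels {g : FreeGroup (Fin chevE6.nroots × K)} (hg : g ∈ chevE6.steinbergRelsAB K) :
    FreeGroup.lift (fun p : Fin chevE6.nroots × K => X chevE7 (iota p.1.val) p.2) g = 1 := by
  set φ := FreeGroup.lift (fun p : Fin chevE6.nroots × K => X chevE7 (iota p.1.val) p.2) with hφ
  have hn := certE6.nroots_eq
  have hlift : ∀ r < tabE6.n, ∀ t : K, φ (chevE6.stX r t) = X chevE7 (iota r) t := by
    intro r hr t
    rw [hφ, ChevalleyDatum.stX, dif_pos (by rw [hn]; exact hr), FreeGroup.lift_apply_of]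
  rcases hg with ⟨r, t₁, t₂, hr, rfl⟩ | ⟨r, s, t, u, hr, hs, hne, hneg, rfl⟩
  · rw [hn] at hr
    rw [map_mul, map_mul, map_inv, hlift r hr, hlift r hr, hlift r hr,
      certE7.X_add (iota_lt r hr).1, mul_inv_cancel]
  · rw [hn] at hr hs
    rw [certE6.neg_eq hr] at hneg
    obtain ⟨hr', hnr⟩ := iota_lt r hr
    have hne' : iota s ≠ iota r := fun e => hne (iota_ne s hs r hr e)
    have hneg' : iota s ≠ tabE7.neg (iota r) := fun e =>
      hneg (iota_ne s hs _ (Cert.neg_lt (T := tabE6) hr) (e.trans hnr.symm))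
    have e := certE7.X_conj hr' (iota_lt s hs).1 hne' hneg' t u
    rw [map_mul, map_mul, map_mul, map_mul, map_inv, map_inv, map_inv, hlift r hr,
      hlift s hs, certE7.X_inv hr', mul_inv_eq_one, mul_assoc (X chevE7 (iota s) u)⁻¹,
      mul_assoc (X chevE7 (iota s) u)⁻¹, e, inv_mul_cancel_left, ChevalleyDatum.stWord,
      map_list_prod, ChevalleyDatum.commWord, certE6.commTerms_eq hr hs, iota_comm r hr s hs hne hneg,
      List.map_map, List.map_map, List.map_map]
    exact congrArg List.prod (List.map_congr_left fun c hc =>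
      (hlift _ (certE6.commTerms_lt hr hs hc) _).symm)

/-- The map of the cover of E6 into the group of type E7. -/
noncomputable def emb (K : Type*) [Field K] : chevE6.SteinbergCover K →* GL chevE7.Idx K :=
  PresentedGroup.toGroup fun _ hg => emb_rels hg

theorem emb_x {r : ℕ} (hr : r < tabE6.n) (t : K) :
    emb K ((cov certE6 K).x r t) = X chevE7 (iota r) t := by
  have hr' : r < chevE6.nroots := certE6.nroots_eq.symm ▸ hr
  rw [Cert.relOf_x, ChevalleyDatum.stX, dif_pos hr']
  exact PresentedGroup.toGroup.of _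

theorem emb_mem (z : chevE6.SteinbergCover K) : emb K z ∈ chevE7.group K := by
  have hz : z ∈ Subgroup.closure {g | ∃ r, r < tabE6.n ∧ ∃ t, g = (cov certE6 K).x r t} := by
    rw [(cov certE6 K).generate]; trivial
  induction hz using Subgroup.closure_induction with
  | mem g hg =>
    obtain ⟨r, hr, t, rfl⟩ := hg
    rw [emb_x hr]; exact certE7.X_mem_group (iota_lt r hr).1 t
  | one => simp
  | mul a b _ _ ha hb => rw [map_mul]; exact mul_mem ha hb
  | inv a _ ha => rw [map_inv]; exact inv_mem ha

theorem emb_covMap {K' : Type*} [Field K'] (f : K →+* K') (z : chevE6.SteinbergCover K) :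
    emb K' (covMap f z) = mapGL chevE7 f (emb K z) := by
  have hz : z ∈ Subgroup.closure {g | ∃ r, r < tabE6.n ∧ ∃ t, g = (cov certE6 K).x r t} := by
    rw [(cov certE6 K).generate]; trivial
  induction hz using Subgroup.closure_induction with
  | mem g hg =>
    obtain ⟨r, hr, t, rfl⟩ := hg
    rw [covMap_x certE6 f hr, emb_x hr, emb_x hr, certE7.X_map]
  | one => simp
  | mul a b _ _ ha hb => simp only [map_mul, ha, hb]
  | inv a _ ha => simp only [map_inv, ha]

theorem emb_nG {i : ℕ} (hi : i < tabE6.l) (t : K) :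
    emb K ((cov certE6 K).nG (tabE6.simple i) t) = nU chevE7 (tabE7.simple i) t := by
  have hp := certE6.simple_lt hi
  have hp' := certE7.simple_lt (show i < tabE7.l from Nat.lt_succ_of_lt hi)
  rw [Rel.nG, map_mul, map_mul, emb_x hp, emb_x (Cert.neg_lt (T := tabE6) hp),
    (iota_lt _ hp).2, iota_simple i hi, nU, certE7.neg_eq hp']

theorem emb_tor [Finite K] (c : Fin tabE6.l → Kˣ) :
    emb K (tor certE6 nbrE6 K c) ∈ chevE7.diagonalSubgroup K := by
  let φ : (Fin tabE6.l → Kˣ) →* GL chevE7.Idx K := (emb K).comp (tor certE6 nbrE6 K)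
  change c ∈ ((chevE7.diagonalSubgroup K).comap φ : Subgroup (Fin tabE6.l → Kˣ))
  rw [← Finset.univ_prod_mulSingle c]
  refine Subgroup.prod_mem _ fun i _ => ?_
  show emb K (tor certE6 nbrE6 K (Pi.mulSingle i (c i))) ∈ chevE7.diagonalSubgroup K
  rw [tor, Rel.torG_single, Rel.hG, map_mul, emb_nG i.2, emb_nG i.2]
  exact certE7.hU_mem (certE7.simple_lt (Nat.lt_succ_of_lt i.2)) (Units.ne_zero _)

theorem wordOK_E7 {w : List ℕ} (hw : WordOK tabE6 w) : WordOK tabE7 w :=
  fun i hi => Nat.lt_succ_of_lt (hw i hi)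

/-- The embedded lift of a monomial element is monomial and acts through the same word. -/
theorem emb_monomial [Finite K] {z : chevE6.SteinbergCover K}
    (hz : (cov certE6 K).π z ∈ chevE6.monomialSubgroup K) :
    ∃ w : List ℕ, WordOK tabE6 w ∧ Acts chevE6 tabE6 ((cov certE6 K).π z) (w.map (reflMat tabE6)).prod ∧
      emb K z ∈ chevE7.monomialSubgroup K ∧
      Acts chevE7 tabE7 (emb K z) (w.map (reflMat tabE7)).prod := by
  obtain ⟨w, hw, t, ht, e⟩ := certE6.exists_word_of_monomial hz
  obtain ⟨c, hc⟩ := certE6.range_torusHom.ge ht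
  have hπn : (cov certE6 K).π ((cov certE6 K).nWG w) = nW chevE6 K w := by
    clear e
    induction w with
    | nil => simp [Rel.nWG, nW]
    | cons i w ih =>
      rw [Rel.nWG_cons, map_mul, ih hw.tail, (cov certE6 K).π_nG certE6 hw.head, nW_cons, nS,
        certE6.simple_eq hw.head]
  have hn7 : emb K ((cov certE6 K).nWG w) = nW chevE7 K w := by
    clear e hπn
    induction w with
    | nil => simp [Rel.nWG, nW]
    | cons i w ih =>
      rw [Rel.nWG_cons, map_mul, ih hw.tail, emb_nG hw.head, nW_cons, nS,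
        certE7.simple_eq (Nat.lt_succ_of_lt hw.head)]
  obtain ⟨k, -, ek, -⟩ := eq_tor_mul certE6 nbrE6 (z := z)
    (z' := (cov certE6 K).nWG w * tor certE6 nbrE6 K c) (by
      rw [map_mul, hπn, π_tor, hc]; exact e)
  rw [mul_assoc, ← map_mul] at ek
  have hz7 : emb K z = nW chevE7 K w * emb K (tor certE6 nbrE6 K (c * k)) := by
    rw [ek, map_mul, hn7]
  have hd := emb_tor (K := K) (c * k)
  refine ⟨w, hw, ?_, ?_, ?_⟩
  · rw [e]
    intro r hr
    refine ⟨rword tabE6 w r, certE6.rword_lt hw hr,
      Maps_mul (certE6.Maps_diagonal ht hr) (certE6.Maps_nW hw hr), ?_⟩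
    clear e ht hc hπn hn7 ek hz7
    induction w with
    | nil => simp [rword]
    | cons i w ih =>
      rw [rword_cons, carV_refl certE6 hw.head (certE6.rword_lt hw.tail hr), ih hw.tail, List.map_cons,
        List.prod_cons, Matrix.mulVec_mulVec]
  · rw [hz7]
    exact mul_mem (certE7.nW_mem_monomial (wordOK_E7 hw)) (Cert.diagonal_le_monomial hd)
  · rw [hz7]
    intro r hr
    have hw7 := wordOK_E7 hw
    refine ⟨rword tabE7 w r, certE7.rword_lt hw7 hr,
      Maps_mul (certE7.Maps_diagonal hd hr) (certE7.Maps_nW hw7 hr), ?_⟩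
    clear e ht hc hπn hn7 ek hz7 hw
    induction w with
    | nil => simp [rword]
    | cons i w ih =>
      rw [rword_cons, carV_refl certE7 hw7.head (certE7.rword_lt hw7.tail hr), ih hw7.tail,
        List.map_cons, List.prod_cons, Matrix.mulVec_mulVec]

/-- The inclusion of the nodes. -/
def inc (i : Fin tabE6.l) : Fin tabE7.l := ⟨i.1, Nat.lt_succ_of_lt i.2⟩

/-- The last node. -/
def last7 : Fin tabE7.l := ⟨6, by decide⟩

theorem refl_block : ∀ i < tabE6.l,
    (∀ a b, reflMat tabE7 i (inc a) (inc b) = reflMat tabE6 i a b) ∧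
      (∀ a, reflMat tabE7 i a last7 = if a = last7 then 1 else 0) := by
  have key : ((List.range tabE6.l).all fun i =>
      ((List.finRange tabE6.l).all fun a => (List.finRange tabE6.l).all fun b =>
        decide (reflMat tabE7 i (inc a) (inc b) = reflMat tabE6 i a b)) &&
      (List.finRange tabE7.l).all fun a =>
        decide (reflMat tabE7 i a last7 = if a = last7 then 1 else 0)) = true := by
    decide +kernel
  simp only [List.all_eq_true, List.mem_range, List.mem_finRange, forall_const, Bool.and_eq_true,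
    decide_eq_true_eq] at key
  exact key

theorem sum_split (f : Fin tabE7.l → ℤ) : ∑ j, f j = (∑ j, f (inc j)) + f last7 :=
  Fin.sum_univ_castSucc (n := 6) f

/-- Words in the first six nodes are block triangular. -/
theorem word_block {w : List ℕ} (hw : WordOK tabE6 w) :
    (∀ a b, (w.map (reflMat tabE7)).prod (inc a) (inc b) = (w.map (reflMat tabE6)).prod a b) ∧
      ∀ a, (w.map (reflMat tabE7)).prod a last7 = if a = last7 then 1 else 0 := by
  induction w with
  | nil =>
    refine ⟨fun a b => ?_, fun a => by simp [Matrix.one_apply]⟩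
    simp [Matrix.one_apply, inc, Fin.ext_iff]
  | cons i w ih =>
    obtain ⟨h1, h2⟩ := refl_block i hw.head
    obtain ⟨g1, g2⟩ := ih hw.tail
    refine ⟨fun a b => ?_, fun a => ?_⟩
    · simp only [List.map_cons, List.prod_cons, Matrix.mul_apply, sum_split, h1, h2, g1]
      rw [if_neg (fun e => by have h6 : (a : ℕ) = 6 := congrArg Fin.val e; exact (h6 ▸ a.2 : 6 < tabE6.l).ne' rfl),
        zero_mul, add_zero]
    · simp only [List.map_cons, List.prod_cons, Matrix.mul_apply, g2, mul_ite, mul_one, mul_zero,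
        Finset.sum_ite_eq', Finset.mem_univ, if_true, h2]

theorem det_block {w : List ℕ} (hw : WordOK tabE6 w) (t : ℤ) :
    (Matrix.scalar (Fin tabE7.l) t - (w.map (reflMat tabE7)).prod).det =
      (t - 1) * (Matrix.scalar (Fin tabE6.l) t - (w.map (reflMat tabE6)).prod).det := by
  obtain ⟨g1, g2⟩ := word_block hw
  set A : Matrix (Fin (6 + 1)) (Fin (6 + 1)) ℤ :=
    Matrix.scalar (Fin tabE7.l) t - (w.map (reflMat tabE7)).prod with hA
  change A.det = _
  rw [Matrix.det_succ_column A (Fin.last 6), Finset.sum_eq_single (Fin.last 6)]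
  · have h1 : A (Fin.last 6) (Fin.last 6) = t - 1 := by
      show (Matrix.scalar (Fin tabE7.l) t - (w.map (reflMat tabE7)).prod) last7 last7 = _
      rw [Matrix.sub_apply, g2, if_pos rfl, Matrix.scalar_apply, Matrix.diagonal_apply_eq]
    have h2 : A.submatrix (Fin.last 6).succAbove (Fin.last 6).succAbove =
        (Matrix.scalar (Fin tabE6.l) t - (w.map (reflMat tabE6)).prod :
          Matrix (Fin tabE6.l) (Fin tabE6.l) ℤ) := by
      refine Matrix.ext fun a b => ?_
      have key : ∀ a b : Fin tabE6.l,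
          (Matrix.scalar (Fin tabE7.l) t - (w.map (reflMat tabE7)).prod :
            Matrix (Fin tabE7.l) (Fin tabE7.l) ℤ) (inc a) (inc b) =
          (Matrix.scalar (Fin tabE6.l) t - (w.map (reflMat tabE6)).prod :
            Matrix (Fin tabE6.l) (Fin tabE6.l) ℤ) a b := fun a b => by
        rw [Matrix.sub_apply, Matrix.sub_apply, g1, Matrix.scalar_apply, Matrix.scalar_apply,
          Matrix.diagonal_apply, Matrix.diagonal_apply]
        simp [inc, Fin.ext_iff]
      rw [Matrix.submatrix_apply, Fin.succAbove_last]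
      exact key a b
    rw [h1, Fin.val_last]
    have h3 := congrArg Matrix.det h2
    rw [show ((-1 : ℤ)) ^ (6 + 6) = 1 by norm_num, one_mul]
    exact congrArg ((t - 1) * ·) h3
  · intro a _ ha
    have key : ∀ a : Fin tabE7.l, a ≠ last7 →
        (Matrix.scalar (Fin tabE7.l) t - (w.map (reflMat tabE7)).prod :
          Matrix (Fin tabE7.l) (Fin tabE7.l) ℤ) a last7 = 0 := fun a hne => by
      rw [Matrix.sub_apply, g2, if_neg hne, Matrix.scalar_apply, Matrix.diagonal_apply_ne _ hne,
        sub_zero]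
    have h1 : A a (Fin.last 6) = 0 := key a fun e => ha (Fin.ext (congrArg Fin.val e :))
    rw [h1, mul_zero, zero_mul]
  · simp

end CfsgLib.Chev.CycTorus
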