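import Cfsg.Agent.Lib.Chev.SylowTorus.Lattice

/-!
An indecomposable root lattice has no invariant orthogonal decomposition.
-/

set_option autoImplicit false

namespace CfsgLib.Chev.CycTorus

open Matrix CfsgLib.Chev.SylowTorus

variable {l : ℕ} {C K : Matrix (Fin l) (Fin l) ℤ} {δ : ℤ}
  {Ec U : Matrix (Fin l) (Fin l) ℤ} {D : Fin l → ℕ} {c : ℕ} (h : Ev C K δ Ec U D c)
include h

theorem qf_add (x y : Fin l → ℤ) : qf K (x + y) = qf K x + 2 * (x ⬝ᵥ K *ᵥ y) + qf K y := by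
  simp only [qf, Matrix.mulVec_add, dotProduct_add, add_dotProduct, bil_comm h y x]
  ring

omit h in
theorem qf_smul (t : ℤ) (x : Fin l → ℤ) : qf K (t • x) = t ^ 2 * qf K x := by
  simp only [qf, Matrix.mulVec_smul, dotProduct_smul, smul_dotProduct, smul_eq_mul]
  ring

theorem eq_zero_of_qf {v : Fin l → ℤ} (hv : qf K v = 0) : v = 0 := by
  refine eq_zero_of_pair h fun y => ?_
  by_contra hy
  have h2 := qf_nonneg h (y + (-(qf K y + 1) * (y ⬝ᵥ K *ᵥ v)) • v)
  rw [qf_add h, qf_smul, hv, Matrix.mulVec_smul, dotProduct_smul, smul_eq_mul] at h2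
  have h3 : 1 ≤ (y ⬝ᵥ K *ᵥ v) ^ 2 := by
    have : 0 < (y ⬝ᵥ K *ᵥ v) ^ 2 := by positivity
    omega
  nlinarith [qf_nonneg h y]

theorem transpose_C : Cᵀ = C := by
  rw [h.even, Matrix.transpose_add, Matrix.transpose_transpose, add_comm]

theorem bil_root (i : Fin l) (j : Fin l) :
    (C *ᵥ Pi.single i 1) ⬝ᵥ K *ᵥ (C *ᵥ Pi.single j 1) = δ * C i j := by
  rw [Matrix.mulVec_mulVec _ K C, h.inv, Matrix.smul_mulVec, Matrix.one_mulVec, dotProduct_smul]
  have e : C j i = C i j := congrFun (congrFun (transpose_C h) i) j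
  simp [e]

/-- An orthogonal projection of an indecomposable root lattice is trivial. -/
theorem proj_trivial (hdiag : ∀ i, C i i = 2)
    (hconn : ∀ f : Fin l → Bool, (∀ i j, C i j ≠ 0 → f i = f j) → ∀ i j, f i = f j)
    {P P' : Matrix (Fin l) (Fin l) ℤ} (hPP : P * P = P) (hsym : Pᵀ * K = K * P)
    (hint : P * C = C * P') : P = 0 ∨ P = 1 := by
  classical
  set a : Fin l → Fin l → ℤ := fun i => C *ᵥ Pi.single i 1
  have hadj : ∀ x y : Fin l → ℤ, (P *ᵥ x) ⬝ᵥ K *ᵥ y = x ⬝ᵥ K *ᵥ (P *ᵥ y) := fun x y => by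
    rw [Matrix.mulVec_mulVec, ← hsym, ← Matrix.mulVec_mulVec, Matrix.mulVec_transpose,
      dotProduct_comm x, ← Matrix.dotProduct_mulVec, dotProduct_comm]
  have hPP' : ∀ x : Fin l → ℤ, P *ᵥ (P *ᵥ x) = P *ᵥ x := fun x => by
    rw [Matrix.mulVec_mulVec, hPP]
  have hor : ∀ i, P *ᵥ a i = 0 ∨ P *ᵥ a i = a i := by
    intro i
    have e1 : P *ᵥ a i = C *ᵥ (P' *ᵥ Pi.single i 1) := by
      show P *ᵥ (C *ᵥ _) = _
      rw [Matrix.mulVec_mulVec, hint, ← Matrix.mulVec_mulVec]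
    have e2 : a i - P *ᵥ a i = C *ᵥ (Pi.single i 1 - P' *ᵥ Pi.single i 1) := by
      rw [e1, Matrix.mulVec_sub]
    obtain ⟨j₁, hj₁⟩ := qf_image h (P' *ᵥ Pi.single i 1)
    obtain ⟨j₂, hj₂⟩ := qf_image h (Pi.single i 1 - P' *ᵥ Pi.single i 1)
    rw [← e1] at hj₁
    rw [← e2] at hj₂
    have hsum : qf K (P *ᵥ a i) + qf K (a i - P *ᵥ a i) = 2 * δ := by
      have h0 : (P *ᵥ a i) ⬝ᵥ K *ᵥ (a i - P *ᵥ a i) = 0 := by
        rw [hadj, Matrix.mulVec_sub, hPP', sub_self, Matrix.mulVec_zero, dotProduct_zero]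
      have h1 := qf_add h (P *ᵥ a i) (a i - P *ᵥ a i)
      rw [add_sub_cancel, h0] at h1
      have h2 : qf K (a i) = 2 * δ := by
        show a i ⬝ᵥ K *ᵥ a i = _
        rw [bil_root h, hdiag, mul_comm]
      linarith
    have hp1 := qf_nonneg h (P *ᵥ a i)
    have hp2 := qf_nonneg h (a i - P *ᵥ a i)
    have hδ := h.δpos
    rw [hj₁, hj₂] at hsum
    rw [hj₁] at hp1
    rw [hj₂] at hp2
    have h1 : 0 ≤ j₁ := by nlinarith
    have h2 : 0 ≤ j₂ := by nlinarith
    have h3 : j₁ + j₂ = 1 := mul_left_cancel₀ (show (2 * δ : ℤ) ≠ 0 by omega) (by linarith)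
    rcases (show j₁ = 0 ∨ j₂ = 0 by omega) with e | e
    · left; exact eq_zero_of_qf h (by rw [hj₁, e, mul_zero])
    · right; exact (sub_eq_zero.1 (eq_zero_of_qf h (by rw [hj₂, e, mul_zero]))).symm
  have hne : ∀ i, a i ≠ 0 := fun i e => by
    have h2 : a i ⬝ᵥ K *ᵥ a i = δ * C i i := bil_root h i i
    rw [e, zero_dotProduct, hdiag] at h2
    have := h.δpos
    omega
  set f : Fin l → Bool := fun i => decide (P *ᵥ a i = a i) with hf
  have hf' : ∀ i j, f i = f j := hconn f fun i j hij => by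
    by_contra hfe
    have h1 : δ * C i j = 0 := by
      rw [← bil_root h]
      show a i ⬝ᵥ K *ᵥ a j = 0
      rcases hor i with e | e <;> rcases hor j with e' | e'
      · exact absurd (by simp [hf, e, e', Ne.symm (hne i), Ne.symm (hne j)]) hfe
      · rw [← e', ← hadj, e, zero_dotProduct]
      · rw [← e, hadj, e', Matrix.mulVec_zero, dotProduct_zero]
      · exact absurd (by simp [hf, e, e']) hfe
    exact hij ((mul_eq_zero.1 h1).resolve_left h.δpos.ne')
  have hcancel : ∀ X : Matrix (Fin l) (Fin l) ℤ, X * C = 0 → X = 0 := by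
    intro X hX
    have h2 : C * K = δ • 1 := by
      have := congrArg Matrix.transpose h.inv
      rwa [Matrix.transpose_mul, h.symm, transpose_C h, Matrix.transpose_smul,
        Matrix.transpose_one] at this
    have h3 := congrArg (fun Y => Y * K) hX
    simp only [Matrix.mul_assoc, h2, Matrix.mul_smul, Matrix.mul_one, Matrix.zero_mul] at h3
    exact (smul_eq_zero.1 h3).resolve_left h.δpos.ne'
  by_cases hex : ∃ i, f i = true
  · obtain ⟨i, hi⟩ := hex
    refine Or.inr (sub_eq_zero.1 (hcancel _ (Matrix.ext fun u v => ?_)))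
    have h1 := hf' i v
    rw [hi, hf, eq_comm, decide_eq_true_eq] at h1
    have h2 := congrFun (show (P - 1) *ᵥ (C *ᵥ Pi.single v 1) = 0 by
      rw [Matrix.sub_mulVec, Matrix.one_mulVec]; exact sub_eq_zero.2 h1) u
    rw [Matrix.mulVec_mulVec] at h2
    simpa using h2
  · refine Or.inl (hcancel _ (Matrix.ext fun u v => ?_))
    have h1 := (hor v).resolve_right fun e => hex ⟨v, by rw [hf]; exact decide_eq_true e⟩
    have h2 := congrFun h1 u
    show _ = (0 : ℤ)
    rw [show P *ᵥ a v = (P * C) *ᵥ Pi.single v 1 from Matrix.mulVec_mulVec _ _ _] at h2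
    simpa using h2

end CfsgLib.Chev.CycTorus
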