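import Cfsg.Agent.Lib.Chev.CycTorus.Indecomp
import Cfsg.Agent.Lib.Chev.SylowTorus.Charpoly

/-!
Isometries of root lattices: finite order, reflections, one-dimensional eigenspaces.
-/

set_option autoImplicit false

namespace CfsgLib.Chev.CycTorus

open Matrix CfsgLib.Chev.SylowTorus

variable {l : ℕ} {C K : Matrix (Fin l) (Fin l) ℤ} {δ : ℤ}
  {Ec U : Matrix (Fin l) (Fin l) ℤ} {D : Fin l → ℕ} {c : ℕ}

theorem iso_pow {M : Matrix (Fin l) (Fin l) ℤ} (hI : Iso C K M) : ∀ i : ℕ, Iso C K (M ^ i)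
  | 0 => by rw [pow_zero]; exact iso_one
  | i + 1 => by rw [pow_succ]; exact iso_mul (iso_pow hI i) hI

variable (h : Ev C K δ Ec U D c)
include h

theorem det_K_ne_zero : K.det ≠ 0 := fun e => by
  have h1 := congrArg Matrix.det h.inv
  rw [Matrix.det_mul, e, zero_mul, Matrix.det_smul, Matrix.det_one, mul_one] at h1
  exact pow_ne_zero _ h.δpos.ne' h1.symm

/-- Isometries of a positive definite form have finite order. -/
theorem iso_finite_order {M : Matrix (Fin l) (Fin l) ℤ} (hI : Iso C K M) :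
    ∃ n, 0 < n ∧ M ^ n = 1 := by
  classical
  set B : ℤ := ∑ i, qf K (C *ᵥ Pi.single i 1) + ∑ j, qf K (Pi.single j 1) with hB
  have hbd : ∀ X : Matrix (Fin l) (Fin l) ℤ, Iso C K X → ∀ i j, X i j ∈ Finset.Icc (-B) B := by
    intro X hX i j
    set y : Fin l → ℤ := X *ᵥ Pi.single j 1 with hy
    have hyi : y i = X i j := by simp [hy]
    have hp : (C *ᵥ Pi.single i 1) ⬝ᵥ K *ᵥ y = δ * X i j := by
      rw [← hyi, bil_comm h, Matrix.mulVec_mulVec _ K C, h.inv, Matrix.smul_mulVec, Matrix.one_mulVec,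
        dotProduct_smul]
      simp
    have hq : qf K y = qf K (Pi.single j 1) := bil_map hX _ _
    have h1 := qf_nonneg h (C *ᵥ Pi.single i 1 + y)
    have h2 := qf_nonneg h (C *ᵥ Pi.single i 1 + (-1 : ℤ) • y)
    rw [qf_add h, hp, hq] at h1
    rw [qf_add h, qf_smul, Matrix.mulVec_smul, dotProduct_smul, hp, hq, smul_eq_mul] at h2
    have s1 : qf K (C *ᵥ Pi.single i 1) ≤ ∑ i, qf K (C *ᵥ Pi.single i 1) :=
      Finset.single_le_sum (f := fun i => qf K (C *ᵥ Pi.single i 1))
        (fun i _ => qf_nonneg h _) (Finset.mem_univ i)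
    have s2 : qf K (Pi.single j 1) ≤ ∑ j, qf K (Pi.single j 1) :=
      Finset.single_le_sum (f := fun j => qf K (Pi.single j 1))
        (fun j _ => qf_nonneg h _) (Finset.mem_univ j)
    have hδ := h.δpos
    rw [Finset.mem_Icc]
    constructor
    · rcases le_or_gt 0 (X i j) with e | e <;> nlinarith
    · rcases le_or_gt 0 (X i j) with e | e <;> nlinarith
  let f : ℕ → (Fin l → Fin l → ↥(Finset.Icc (-B) B)) := fun k i j =>
    ⟨(M ^ k) i j, hbd _ (iso_pow hI k) i j⟩
  obtain ⟨a, b, hab, hfab⟩ := Finite.exists_ne_map_eq_of_infinite f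
  have e : M ^ a = M ^ b := Matrix.ext fun i j => congrArg Subtype.val (congrFun (congrFun hfab i) j)
  wlog hlt : a < b generalizing a b
  · exact this b a hab.symm hfab.symm e.symm (lt_of_le_of_ne (not_lt.1 hlt) hab.symm)
  refine ⟨b - a, by omega, ?_⟩
  have hd : (M ^ a).det ≠ 0 := by
    intro e0
    have h1 := congrArg Matrix.det (iso_pow hI a).1
    rw [Matrix.det_mul, e0, mul_zero] at h1
    exact det_K_ne_zero h h1.symm
  have h2 : M ^ a * (M ^ (b - a) - 1) = 0 := by
    rw [mul_sub, ← pow_add, Nat.add_sub_cancel' hlt.le, mul_one, e, sub_self]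
  have h3 := congrArg (fun Y => (M ^ a).adjugate * Y) h2
  simp only [← Matrix.mul_assoc, Matrix.adjugate_mul, Matrix.smul_mul, Matrix.one_mul,
    Matrix.mul_zero] at h3
  exact sub_eq_zero.1 ((smul_eq_zero.1 h3).resolve_left hd)

/-- The reflection in a root. -/
theorem iso_refl {a u : Fin l → ℤ} (hu : K *ᵥ a = δ • u) (hq : qf K a = 2 * δ) :
    Iso C K (1 - Matrix.vecMulVec a u) ∧ C *ᵥ u = a ∧ u ⬝ᵥ a = 2 := by
  have hCK : C * K = δ • 1 := by
    have := congrArg Matrix.transpose h.inv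
    rwa [Matrix.transpose_mul, h.symm, transpose_C h, Matrix.transpose_smul,
      Matrix.transpose_one] at this
  have hCu : C *ᵥ u = a := by
    refine smul_right_injective _ h.δpos.ne' ?_
    show δ • (C *ᵥ u) = δ • a
    rw [← Matrix.mulVec_smul, ← hu, Matrix.mulVec_mulVec, hCK, Matrix.smul_mulVec,
      Matrix.one_mulVec]
  have hua : u ⬝ᵥ a = 2 := by
    refine mul_left_cancel₀ h.δpos.ne' ?_
    rw [← smul_eq_mul, ← smul_dotProduct, ← hu, dotProduct_comm, mul_comm δ]
    exact hq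
  refine ⟨⟨?_, -Matrix.vecMulVec u u, ?_⟩, hCu, hua⟩
  · have hKv : K * Matrix.vecMulVec a u = δ • Matrix.vecMulVec u u := by
      rw [Matrix.mul_vecMulVec, hu, Matrix.smul_vecMulVec]
    have hvK : (Matrix.vecMulVec a u)ᵀ * K = δ • Matrix.vecMulVec u u := by
      have := congrArg Matrix.transpose hKv
      rwa [Matrix.transpose_mul, h.symm, Matrix.transpose_smul, Matrix.transpose_vecMulVec u u] at this
    have hvv : Matrix.vecMulVec u u * Matrix.vecMulVec a u = (2 : ℤ) • Matrix.vecMulVec u u := by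
      rw [Matrix.vecMulVec_mul_vecMulVec, hua, Matrix.vecMulVec_smul]
    rw [Matrix.transpose_sub, Matrix.transpose_one, sub_mul, one_mul, hvK, mul_sub, mul_one,
      sub_mul, hKv, Matrix.smul_mul, hvv]
    module
  · rw [mul_neg, Matrix.mul_vecMulVec, hCu, sub_eq_add_neg]

end CfsgLib.Chev.CycTorus

namespace CfsgLib.Chev.CycTorus

open Matrix CfsgLib.Chev.SylowTorus

variable {l : ℕ} {r : ℕ} [Fact r.Prime]

/-- A one-dimensional eigenspace of row vectors. -/
theorem eigen_span {M : Matrix (Fin l) (Fin l) ℤ} {a : ZMod r} {x y : Fin l → ZMod r}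
    (hm : ((M.charpoly).map (Int.castRingHom (ZMod r))).rootMultiplicity a ≤ 1) (hx : x ≠ 0)
    (hxM : x ᵥ* M.map (Int.castRingHom (ZMod r)) = a • x)
    (hyM : y ᵥ* M.map (Int.castRingHom (ZMod r)) = a • y) : ∃ t : ZMod r, y = t • x := by
  classical
  let S := {z : Fin l → ZMod r // z ᵥ* M.map (Int.castRingHom (ZMod r)) = a • z}
  have hS : Nat.card S ≤ r :=
    (card_eigen_le a).trans ((Nat.pow_le_pow_right (Fact.out : r.Prime).pos hm).trans (pow_one r).le)
  let f : ZMod r → S := fun t => ⟨t • x, by rw [Matrix.smul_vecMul, hxM, smul_comm]⟩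
  have hf : Function.Injective f := fun t t' e =>
    smul_left_injective (ZMod r) hx (congrArg Subtype.val e)
  obtain ⟨t, ht⟩ := (Function.Injective.bijective_of_nat_card_le hf (by rwa [Nat.card_zmod])).2
    ⟨y, hyM⟩
  exact ⟨t, (congrArg Subtype.val ht).symm⟩

/-- An eigenvalue is a root of the characteristic polynomial. -/
theorem one_le_mult {M : Matrix (Fin l) (Fin l) ℤ} {a : ZMod r} {x : Fin l → ZMod r} (hx : x ≠ 0)
    (hxM : x ᵥ* M.map (Int.castRingHom (ZMod r)) = a • x) :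
    1 ≤ ((M.charpoly).map (Int.castRingHom (ZMod r))).rootMultiplicity a := by
  by_contra h0
  have h1 := card_eigen_le (M := M) (r := r) a
  rw [show ((M.charpoly).map (Int.castRingHom (ZMod r))).rootMultiplicity a = 0 by omega,
    pow_zero, Finite.card_le_one_iff_subsingleton] at h1
  exact hx (congrArg Subtype.val
    (h1.elim ⟨x, hxM⟩ ⟨0, by rw [Matrix.zero_vecMul, smul_zero]⟩))

end CfsgLib.Chev.CycTorus
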