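import Cfsg.Agent.Lib.Chev.CycTorus.Isom
import Cfsg.Agent.Lib.Chev.SylowTorus.Data
import Cfsg.Agent.Lib.Chev.GTorus.Kernel

/-!
Norm arguments in the weight lattice of E7 for a matrix without eigenvalue one.
-/

set_option autoImplicit false
set_option maxRecDepth 100000
set_option maxHeartbeats 1000000

namespace CfsgLib.Chev.CycTorus

open Matrix CfsgLib.Chev.SylowTorus CfsgLib.Chev.GTorus

/-- A vector orthogonal to the kernel of `B` comes from the transpose of `B`. -/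
theorem exists_of_orth {l : ℕ} {G : Type*} [CommGroup G] [Finite G] [IsCyclic G]
    (B : Matrix (Fin l) (Fin l) ℤ) (hB : B.det ≠ 0) (hd : B.det.natAbs ∣ Nat.card G)
    (a : Fin l → ℤ) (ha : ∀ c ∈ (matHom (G := G) B).ker, ∏ i, c i ^ a i = 1) :
    ∃ y, a = Bᵀ *ᵥ y := by
  obtain ⟨g, hg⟩ := IsCyclic.exists_ofOrder_eq_natCard (α := G)
  set n := Nat.card G with hn
  obtain ⟨k, hk⟩ := hd
  have hk0 : (k : ℤ) ≠ 0 := by
    have : k ≠ 0 := fun h => by rw [h, mul_zero] at hk; exact Nat.card_pos.ne' (hn ▸ hk)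
    exact_mod_cast this
  have hnk : (n : ℤ) ∣ (k : ℤ) * B.det := by
    have h1 : (B.det.natAbs : ℤ) ∣ B.det := Int.natAbs_dvd.2 dvd_rfl
    rw [show (n : ℤ) = (k : ℤ) * (B.det.natAbs : ℤ) by rw [mul_comm, ← Nat.cast_mul, ← hk]]
    exact mul_dvd_mul_left _ h1
  have hone : ∀ e : ℤ, g ^ e = 1 ↔ (n : ℤ) ∣ e := fun e => by
    rw [← orderOf_dvd_iff_zpow_eq_one, hg]
  have hpow : ∀ x y : Fin l → ℤ, ∏ i, (g ^ x i) ^ y i = g ^ (x ⬝ᵥ y) := fun x y => by
    simp only [← _root_.zpow_mul, dotProduct]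
    induction (Finset.univ : Finset (Fin l)) using Finset.cons_induction with
    | empty => simp
    | cons b S hb ih => rw [Finset.prod_cons, Finset.sum_cons, ih, _root_.zpow_add]
  have key : ∀ y : Fin l → ℤ, B.det ∣ (a ᵥ* B.adjugate) ⬝ᵥ y := fun y => by
    have hc : (fun j => g ^ ((k : ℤ) * (B.adjugate *ᵥ y) j)) ∈ (matHom (G := G) B).ker := by
      rw [MonoidHom.mem_ker, matHom_pow]
      funext i
      refine (hone _).2 ?_
      rw [show (fun j => (k : ℤ) * (B.adjugate *ᵥ y) j) = (k : ℤ) • (B.adjugate *ᵥ y) from rfl,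
        Matrix.mulVec_smul, Matrix.mulVec_mulVec, Matrix.mul_adjugate, Matrix.smul_mulVec,
        Matrix.one_mulVec, Pi.smul_apply, Pi.smul_apply, smul_eq_mul, smul_eq_mul, ← mul_assoc]
      exact hnk.mul_right _
    have h1 := ha _ hc
    rw [hpow, hone, show (fun j => (k : ℤ) * (B.adjugate *ᵥ y) j) = (k : ℤ) • (B.adjugate *ᵥ y)
      from rfl, smul_dotProduct, dotProduct_comm, Matrix.dotProduct_mulVec, smul_eq_mul] at h1
    have h2 : (k : ℤ) * (B.det.natAbs : ℤ) ∣ (k : ℤ) * ((a ᵥ* B.adjugate) ⬝ᵥ y) := by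
      rwa [mul_comm, ← Nat.cast_mul, ← hk]
    exact Int.natAbs_dvd.1 ((mul_dvd_mul_iff_left hk0).1 h2)
  choose z hz using fun j => key (Pi.single j 1)
  refine ⟨z, smul_right_injective _ hB ?_⟩
  show B.det • a = B.det • (Bᵀ *ᵥ z)
  have h3 : a ᵥ* B.adjugate = B.det • z := funext fun j => by
    simpa using hz j
  have h4 := congrArg (fun x => x ᵥ* B) h3
  simp only [Matrix.vecMul_vecMul, Matrix.adjugate_mul, Matrix.smul_vecMul, Matrix.vecMul_smul,
    Matrix.vecMul_one] at h4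
  rw [h4, Matrix.mulVec_transpose]

theorem hconnE7 : ∀ f : Fin tabE7.l → Bool,
    (∀ i j, cartanT tabE7 i j ≠ 0 → f i = f j) → ∀ i j, f i = f j := by
  intro f hf
  have h02 := hf ⟨0, by decide⟩ ⟨2, by decide⟩ (by decide +kernel)
  have h23 := hf ⟨2, by decide⟩ ⟨3, by decide⟩ (by decide +kernel)
  have h13 := hf ⟨1, by decide⟩ ⟨3, by decide⟩ (by decide +kernel)
  have h34 := hf ⟨3, by decide⟩ ⟨4, by decide⟩ (by decide +kernel)
  have h45 := hf ⟨4, by decide⟩ ⟨5, by decide⟩ (by decide +kernel)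
  have h56 := hf ⟨5, by decide⟩ ⟨6, by decide⟩ (by decide +kernel)
  have key : ∀ i : Fin tabE7.l, f i = f ⟨3, by decide⟩ := by
    rintro ⟨i, hi⟩
    have hi7 : i < 7 := hi
    interval_cases i
    · rw [h02, h23]
    · rw [h13]
    · rw [h23]
    · rfl
    · rw [h34]
    · rw [← h45, h34]
    · rw [← h56, ← h45, h34]
  intro i j
  rw [key i, key j]

variable {q : ℕ} {M E : Matrix (Fin tabE7.l) (Fin tabE7.l) ℤ}

theorem bil_le (hM : Iso (cartanT tabE7) kKE7 M) (y : Fin tabE7.l → ℤ) :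
    y ⬝ᵥ kKE7 *ᵥ (M *ᵥ y) ≤ qf kKE7 y ∧
      (y ⬝ᵥ kKE7 *ᵥ (M *ᵥ y) = qf kKE7 y → M *ᵥ y = y) := by
  have h1 : qf kKE7 (M *ᵥ y + (-1 : ℤ) • y) =
      2 * qf kKE7 y - 2 * (y ⬝ᵥ kKE7 *ᵥ (M *ᵥ y)) := by
    rw [qf_add evE7, qf_smul, show qf kKE7 (M *ᵥ y) = qf kKE7 y from bil_map hM _ _,
      Matrix.mulVec_smul, dotProduct_smul, bil_comm evE7 (M *ᵥ y) y, smul_eq_mul]
    ring
  have h2 := qf_nonneg evE7 (M *ᵥ y + (-1 : ℤ) • y)
  refine ⟨by linarith, fun e => ?_⟩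
  have h3 : qf kKE7 (M *ᵥ y + (-1 : ℤ) • y) = 0 := by rw [h1, e]; ring
  have h4 := eq_zero_of_qf evE7 h3
  rwa [neg_one_smul, ← sub_eq_add_neg, sub_eq_zero] at h4

theorem qf_image_val (hM : Iso (cartanT tabE7) kKE7 M) (y : Fin tabE7.l → ℤ) :
    qf kKE7 (((q : ℤ) • 1 - M) *ᵥ y) =
      ((q : ℤ) ^ 2 + 1) * qf kKE7 y - 2 * q * (y ⬝ᵥ kKE7 *ᵥ (M *ᵥ y)) := by
  rw [show ((q : ℤ) • 1 - M) *ᵥ y = (q : ℤ) • y + (-1 : ℤ) • (M *ᵥ y) by
    rw [Matrix.sub_mulVec, Matrix.smul_mulVec, Matrix.one_mulVec, neg_one_smul, sub_eq_add_neg],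
    qf_add evE7, qf_smul, qf_smul, show qf kKE7 (M *ᵥ y) = qf kKE7 y from bil_map hM _ _,
    Matrix.mulVec_smul, dotProduct_smul, smul_dotProduct, smul_eq_mul, smul_eq_mul]
  ring

theorem three_le_qf {y : Fin tabE7.l → ℤ} (hy : y ≠ 0) : 3 ≤ qf kKE7 y := by
  obtain ⟨j, hj⟩ := qf_mod remE7 y
  have h0 := qf_nonneg evE7 y
  have h1 : qf kKE7 y ≠ 0 := fun e => hy (eq_zero_of_qf evE7 e)
  set m := kUE7 ⬝ᵥ y
  obtain ⟨s, hs⟩ | ⟨s, hs⟩ := Int.even_or_odd m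
  · have : qf kKE7 y = 4 * (3 * s ^ 2 + j) := by rw [hj, hs]; ring
    omega
  · have : qf kKE7 y = 4 * (3 * s ^ 2 + 3 * s + j) + 3 := by rw [hj, hs]; ring
    omega

/-- No vector of norm four is in the image. -/
theorem root_not_mem (hq : 2 ≤ q) (hM : Iso (cartanT tabE7) kKE7 M)
    (h1 : ∀ y, M *ᵥ y = y → y = 0) {a : Fin tabE7.l → ℤ} (ha : qf kKE7 a = 4)
    (y : Fin tabE7.l → ℤ) : a ≠ ((q : ℤ) • 1 - M) *ᵥ y := by
  intro e
  have hy : y ≠ 0 := by
    rintro rfl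
    rw [Matrix.mulVec_zero] at e
    rw [e] at ha
    simp [qf] at ha
  have hn := three_le_qf hy
  obtain ⟨hb, hb'⟩ := bil_le hM y
  have hv := qf_image_val (q := q) hM y
  rw [← e, ha] at hv
  set n := qf kKE7 y
  set b := y ⬝ᵥ kKE7 *ᵥ (M *ᵥ y)
  have hqZ : (2 : ℤ) ≤ q := by exact_mod_cast hq
  have hq2 : q = 2 := by
    by_contra h
    have h3 : (3 : ℤ) ≤ q := by exact_mod_cast (by omega : 3 ≤ q)
    have h4 : ((q : ℤ) - 1) ^ 2 * n ≤ 4 := by nlinarith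
    nlinarith
  subst hq2
  norm_num at hv
  have : b = n := by omega
  exact hy (h1 y (hb' this))

/-- The displacement of a vector of norm four by an isometry congruent to one. -/
theorem displacement (hq : 2 ≤ q) (hM : Iso (cartanT tabE7) kKE7 M)
    (h1 : ∀ y, M *ᵥ y = y → y = 0) (hord : ∃ k, 0 < k ∧ M ^ k = 1)
    (hE : Iso (cartanT tabE7) kKE7 E) {a : Fin tabE7.l → ℤ}
    (haQ : ∃ m, a = cartanT tabE7 *ᵥ m) (ha : qf kKE7 a = 4) {y : Fin tabE7.l → ℤ}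
    (hy : E *ᵥ a - a = ((q : ℤ) • 1 - M) *ᵥ y) :
    E *ᵥ a = a ∨ (a ⬝ᵥ kKE7 *ᵥ (E *ᵥ a) = -2 ∧ q = 2 ∧ qf kKE7 y = 4 ∧
      ∃ m, y = cartanT tabE7 *ᵥ m) := by
  by_cases hy0 : y = 0
  · rw [hy0, Matrix.mulVec_zero, sub_eq_zero] at hy
    exact .inl hy
  right
  obtain ⟨b0l, -⟩ := bil_le hE a
  have hn := three_le_qf hy0
  obtain ⟨hb, hb'⟩ := bil_le hM y
  have hbn : y ⬝ᵥ kKE7 *ᵥ (M *ᵥ y) ≠ qf kKE7 y := fun e => hy0 (h1 y (hb' e))
  have hv : qf kKE7 (E *ᵥ a - a) = 8 - 2 * (a ⬝ᵥ kKE7 *ᵥ (E *ᵥ a)) := by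
    rw [sub_eq_add_neg, ← neg_one_smul ℤ a, qf_add evE7, qf_smul,
      show qf kKE7 (E *ᵥ a) = qf kKE7 a from bil_map hE _ _, Matrix.mulVec_smul, dotProduct_smul,
      bil_comm evE7 (E *ᵥ a) a, ha, smul_eq_mul]
    ring
  have hv0 := qf_image_val (q := q) hM y
  rw [← hy, hv] at hv0
  have hb0 : -4 ≤ a ⬝ᵥ kKE7 *ᵥ (E *ᵥ a) := by
    have h2 := qf_nonneg evE7 (E *ᵥ a + a)
    rw [qf_add evE7, show qf kKE7 (E *ᵥ a) = qf kKE7 a from bil_map hE _ _,
      bil_comm evE7 (E *ᵥ a) a, ha] at h2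
    omega
  set b₀ := a ⬝ᵥ kKE7 *ᵥ (E *ᵥ a) with hb₀
  set n := qf kKE7 y
  set b := y ⬝ᵥ kKE7 *ᵥ (M *ᵥ y) with hbdef
  have hq2 : q = 2 := by
    by_contra h
    by_cases h3 : q = 3
    · subst h3
      norm_num at hv0
      omega
    have h4 : (4 : ℤ) ≤ q := by exact_mod_cast (by omega : 4 ≤ q)
    have h5 : ((q : ℤ) - 1) ^ 2 * n ≤ 16 := by nlinarith
    nlinarith
  subst hq2
  norm_num at hv0
  -- `y` is in the root lattice
  obtain ⟨m, rfl⟩ := haQ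
  obtain ⟨hE', NE, hNE⟩ := hE
  obtain ⟨hM', NM, hNM⟩ := id hM
  obtain ⟨mv, hmv⟩ : ∃ mv, y = cartanT tabE7 *ᵥ mv := by
    refine ⟨NE *ᵥ (cartanT tabE7 *ᵥ m) + NM *ᵥ y, ?_⟩
    rw [hNE, hNM] at hy
    simp only [Matrix.add_mulVec, Matrix.sub_mulVec, Matrix.smul_mulVec, Matrix.one_mulVec,
      add_sub_cancel_left, ← Matrix.mulVec_mulVec] at hy
    rw [Matrix.mulVec_add, hy]
    push_cast
    rw [two_smul]
    abel
  obtain ⟨j, hj⟩ := qf_image evE7 mv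
  rw [← hmv] at hj
  have hev : ∀ w, ∃ i : ℤ, y ⬝ᵥ kKE7 *ᵥ w = 2 * i := fun w => ⟨mv ⬝ᵥ w, by
    rw [bil_comm evE7, hmv, Matrix.mulVec_mulVec, evE7.inv, Matrix.smul_mulVec, Matrix.one_mulVec,
      dotProduct_smul, dotProduct_comm, smul_eq_mul]⟩
  obtain ⟨ib, hib⟩ := hev (M *ᵥ y)
  rw [← hbdef] at hib
  have hevb : ∃ i : ℤ, b₀ = 2 * i := ⟨m ⬝ᵥ (E *ᵥ (cartanT tabE7 *ᵥ m)), by
    rw [hb₀, bil_comm evE7, Matrix.mulVec_mulVec _ kKE7, evE7.inv, Matrix.smul_mulVec, Matrix.one_mulVec,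
      dotProduct_smul, dotProduct_comm, smul_eq_mul]⟩
  obtain ⟨i0, hi0⟩ := hevb
  have hjn : n = 4 * j := hj.trans (by ring)
  rcases (by omega : (n = 4 ∧ b₀ = -2) ∨ (n = 8 ∧ b₀ = -4)) with ⟨hn4, hb4⟩ | ⟨-, hb4⟩
  · exact ⟨hb4, rfl, hn4, mv, hmv⟩
  exfalso
  set a := cartanT tabE7 *ᵥ m
  have hEa : E *ᵥ a = -a := by
    have h2 : qf kKE7 (E *ᵥ a + a) = 0 := by
      rw [qf_add evE7, show qf kKE7 (E *ᵥ a) = qf kKE7 a from bil_map ⟨hE', NE, hNE⟩ _ _,
        bil_comm evE7 (E *ᵥ a) a, ha, ← hb₀, hb4]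
      norm_num
    exact eq_neg_of_add_eq_zero_left (eq_zero_of_qf evE7 h2)
  obtain ⟨k, hk, hMk⟩ := hord
  obtain ⟨k, rfl⟩ : ∃ k', k = k' + 1 := ⟨k - 1, by omega⟩
  have hMy : M *ᵥ y = (2 : ℤ) • (y + a) := by
    rw [hEa, Matrix.sub_mulVec, Matrix.smul_mulVec, Matrix.one_mulVec] at hy
    funext i
    have := congrFun hy i
    simp only [Pi.sub_apply, Pi.neg_apply, Pi.smul_apply, smul_eq_mul, Nat.cast_ofNat] at this
    simp only [Pi.smul_apply, Pi.add_apply, smul_eq_mul]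
    linarith
  have hy2 : y = (2 : ℤ) • ((M ^ k) *ᵥ (y + a)) := by
    rw [← Matrix.mulVec_smul, ← hMy, Matrix.mulVec_mulVec, ← pow_succ, hMk, Matrix.one_mulVec]
  refine root_not_mem (q := 2) le_rfl hM h1 ha (-((M ^ k) *ᵥ (y + a))) ?_
  rw [hEa, hy2, Matrix.mulVec_smul] at hy
  rw [Matrix.mulVec_neg]
  funext i
  have := congrFun hy i
  simp only [Pi.sub_apply, Pi.neg_apply, Pi.smul_apply, smul_eq_mul] at this
  simp only [Pi.neg_apply]
  linarith

theorem col_cartanE7 : ∀ i, qf kKE7 (cartanT tabE7 *ᵥ Pi.single i 1) = 4 := by decide +kernel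

/-- An isometry commuting with `M` and congruent to one modulo its image is trivial. -/
theorem eq_one_of_congr (hq : 2 ≤ q) (hM : Iso (cartanT tabE7) kKE7 M)
    (h1 : ∀ y, M *ᵥ y = y → y = 0) (hdet : ((q : ℤ) • 1 - M).det ≠ 0)
    (hE : Iso (cartanT tabE7) kKE7 E) (hc : E * M = M * E)
    (hcong : ∀ a : Fin tabE7.l → ℤ, (∃ m, a = cartanT tabE7 *ᵥ m) →
      ∃ y, E *ᵥ a - a = ((q : ℤ) • 1 - M) *ᵥ y) : E = 1 := by
  classical
  obtain ⟨k, hk, hMk⟩ := iso_finite_order evE7 hM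
  have hord : ∃ k, 0 < k ∧ M ^ k = 1 := ⟨k, hk, hMk⟩
  have hcong' : ∀ j : ℕ, ∀ a : Fin tabE7.l → ℤ, (∃ m, a = cartanT tabE7 *ᵥ m) →
      ∃ y, (E ^ j) *ᵥ a - a = ((q : ℤ) • 1 - M) *ᵥ y := by
    intro j a ha
    induction j with
    | zero => exact ⟨0, by simp⟩
    | succ j ih =>
      obtain ⟨y, hy⟩ := ih
      obtain ⟨y', hy'⟩ := hcong a ha
      refine ⟨(E ^ j) *ᵥ y' + y, ?_⟩
      have hcj : Commute (E ^ j) ((q : ℤ) • 1 - M) :=
        ((Commute.one_right (E ^ j)).smul_right (q : ℤ)).sub_right ((show Commute E M from hc).pow_left j)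
      rw [Matrix.mulVec_add, Matrix.mulVec_mulVec, ← hcj.eq, ← Matrix.mulVec_mulVec, ← hy', ← hy,
        pow_succ, ← Matrix.mulVec_mulVec, Matrix.mulVec_sub]
      abel
  by_contra hne
  obtain ⟨N, hN, hEN⟩ := iso_finite_order evE7 hE
  have hfin : IsOfFinOrder E := isOfFinOrder_iff_pow_eq_one.2 ⟨N, hN, hEN⟩
  have hne1 : orderOf E ≠ 1 := fun e => hne (orderOf_eq_one_iff.1 e)
  obtain ⟨p, hp, hpd⟩ := Nat.exists_prime_and_dvd hne1
  obtain ⟨e, he⟩ := hpd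
  set G := E ^ e with hG
  have hGp : G ^ p = 1 := by rw [hG, ← pow_mul, mul_comm, ← he, pow_orderOf_eq_one]
  have hG1 : G ≠ 1 := by
    intro h
    have h2 := Nat.le_of_dvd (by
      rcases Nat.eq_zero_or_pos e with rfl | h0
      · rw [mul_zero] at he; exact absurd he hfin.orderOf_pos.ne'
      · exact h0) (orderOf_dvd_of_pow_eq_one h)
    have := hp.two_le
    have := hfin.orderOf_pos
    nlinarith
  have hIG : Iso (cartanT tabE7) kKE7 G := iso_pow hE e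
  have hcG : ∀ j, Commute (G ^ j) ((q : ℤ) • 1 - M) := fun j => by
    rw [hG, ← pow_mul]
    exact ((Commute.one_right _).smul_right (q : ℤ)).sub_right
      ((show Commute E M from hc).pow_left _)
  set S := ∑ j ∈ Finset.range p, G ^ j with hS
  have hSG : S * G = S := by
    have h2 : S * (G - 1) = 0 := by rw [hS, geom_sum_mul, hGp, sub_self]
    rwa [mul_sub, mul_one, sub_eq_zero] at h2
  -- moved vectors of norm four force order three
  have hmoved : ∀ a : Fin tabE7.l → ℤ, (∃ m, a = cartanT tabE7 *ᵥ m) → qf kKE7 a = 4 →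
      G *ᵥ a ≠ a → p = 3 ∧ (1 + G + G ^ 2) *ᵥ a = 0 := by
    intro a haQ ha hmv
    obtain ⟨y, hy⟩ := hcong' e a haQ
    obtain hfix | ⟨-, hq2, hy4, hyQ⟩ := displacement hq hM h1 hord hIG haQ ha hy
    · exact absurd hfix hmv
    have hSy : S *ᵥ y = 0 := by
      have h2 : S *ᵥ (G *ᵥ a - a) = 0 := by
        rw [Matrix.mulVec_sub, Matrix.mulVec_mulVec, hSG, sub_self]
      have hcS : Commute S ((q : ℤ) • 1 - M) := Commute.sum_left _ _ _ fun j _ => hcG j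
      rw [hy, Matrix.mulVec_mulVec, hcS.eq, ← Matrix.mulVec_mulVec] at h2
      exact Matrix.eq_zero_of_mulVec_eq_zero hdet h2
    have hsum : ∑ j ∈ Finset.range p, y ⬝ᵥ kKE7 *ᵥ ((G ^ j) *ᵥ y) = 0 := by
      rw [← dotProduct_sum, ← Matrix.mulVec_sum, ← Matrix.sum_mulVec, ← hS, hSy, Matrix.mulVec_zero,
        dotProduct_zero]
    have hval : ∀ j ∈ Finset.range p, (6 : ℤ) ∣ y ⬝ᵥ kKE7 *ᵥ ((G ^ j) *ᵥ y) - 4 := by
      intro j _
      obtain ⟨z, hz⟩ := hcong' (e * j) y hyQ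
      rw [pow_mul, ← hG] at hz
      rcases displacement hq hM h1 hord (iso_pow hIG j) hyQ hy4 hz with h2 | ⟨h2, -⟩
      · rw [h2, show y ⬝ᵥ kKE7 *ᵥ y = qf kKE7 y from rfl, hy4]; simp
      · rw [h2]; norm_num
    have h6 := Finset.dvd_sum hval
    rw [Finset.sum_sub_distrib, hsum, Finset.sum_const, Finset.card_range, zero_sub, dvd_neg,
      nsmul_eq_mul] at h6
    have hp3 : p = 3 := by
      have h7 : (3 : ℤ) ∣ (p : ℤ) := by
        have h8 : (3 : ℤ) ∣ (p : ℤ) * 4 := dvd_trans (by norm_num) h6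
        exact ((Int.prime_three).dvd_mul.1 h8).resolve_right (by norm_num)
      exact ((Nat.prime_dvd_prime_iff_eq Nat.prime_three hp).1 (by exact_mod_cast h7)).symm
    refine ⟨hp3, ?_⟩
    subst hp3
    have hmv2 : (G ^ 2) *ᵥ a ≠ a := by
      intro h2
      have h3 := congrArg (fun v => G *ᵥ v) h2
      simp only [Matrix.mulVec_mulVec, ← pow_succ', hGp, Matrix.one_mulVec] at h3
      exact hmv h3.symm
    obtain ⟨z, hz⟩ := hcong' (e * 2) a haQ
    rw [pow_mul, ← hG] at hz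
    have e1 := (displacement hq hM h1 hord hIG haQ ha hy).resolve_left hmv
    have e2 := (displacement hq hM h1 hord (iso_pow hIG 2) haQ ha hz).resolve_left hmv2
    have e3 : (G *ᵥ a) ⬝ᵥ kKE7 *ᵥ ((G ^ 2) *ᵥ a) = -2 := by
      rw [pow_two, ← Matrix.mulVec_mulVec, bil_map hIG]
      exact e1.1
    refine eq_zero_of_qf evE7 ?_
    have hexp : (1 + G + G ^ 2) *ᵥ a = a + G *ᵥ a + (G ^ 2) *ᵥ a := by
      simp only [Matrix.add_mulVec, Matrix.one_mulVec]
    rw [hexp, qf_add evE7, qf_add evE7, show qf kKE7 (G *ᵥ a) = qf kKE7 a from bil_map hIG _ _,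
      show qf kKE7 ((G ^ 2) *ᵥ a) = qf kKE7 a from bil_map (iso_pow hIG 2) _ _, add_dotProduct,
      e1.1, e2.1, e3, ha]
    norm_num
  -- all simple roots are moved
  let f : Fin tabE7.l → Bool := fun i =>
    decide (G *ᵥ (cartanT tabE7 *ᵥ Pi.single i 1) = cartanT tabE7 *ᵥ Pi.single i 1)
  have hlink : ∀ i j, cartanT tabE7 i j ≠ 0 → f i = f j := by
    have hno : ∀ i j, f i = true → f j = false → cartanT tabE7 i j = 0 := by
      intro i j hi hj
      simp only [f, decide_eq_true_eq, decide_eq_false_iff_not] at hi hj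
      set b := cartanT tabE7 *ᵥ Pi.single i 1 with hb
      set a := cartanT tabE7 *ᵥ Pi.single j 1 with ha
      obtain ⟨-, hz⟩ := hmoved a ⟨_, rfl⟩ (col_cartanE7 j) hj
      have hg : ∀ n : ℕ, ((G ^ n) *ᵥ a) ⬝ᵥ kKE7 *ᵥ b = a ⬝ᵥ kKE7 *ᵥ b := by
        intro n
        have hfix : (G ^ n) *ᵥ b = b := by
          induction n with
          | zero => simp
          | succ n ih => rw [pow_succ, ← Matrix.mulVec_mulVec, hi, ih]
        conv_lhs => rw [← hfix]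
        exact bil_map (iso_pow hIG n) _ _
      have h3 : 3 * (a ⬝ᵥ kKE7 *ᵥ b) = 0 := by
        have h4 := congrArg (fun v => v ⬝ᵥ kKE7 *ᵥ b) hz
        have hg1 := hg 1
        rw [pow_one] at hg1
        simp only [Matrix.add_mulVec, Matrix.one_mulVec, add_dotProduct, zero_dotProduct, hg1,
          hg 2] at h4
        linarith
      have h5 : a ⬝ᵥ kKE7 *ᵥ b = 0 := by omega
      rw [hb, Matrix.mulVec_mulVec, evE7.inv, Matrix.smul_mulVec, Matrix.one_mulVec, dotProduct_smul,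
        dotProduct_single, ha, Matrix.mulVec_single_one, smul_eq_mul] at h5
      simpa [Matrix.col_apply] using h5
    intro i j hij
    by_contra hne'
    rcases hi : f i <;> rcases hj : f j <;> simp only [hi, hj, not_true_eq_false] at hne'
    · exact hij (by
        have h := hno j i hj hi
        rwa [← (transpose_C evE7), Matrix.transpose_apply])
    · exact hij (hno i j hi hj)
  have hall := hconnE7 f hlink
  by_cases hfix : f ⟨0, by decide⟩ = true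
  · refine hG1 ?_
    have h2 : (G - 1) * cartanT tabE7 = 0 := by
      refine Matrix.ext fun p' i => ?_
      have h3 : f i = true := by rw [hall i ⟨0, by decide⟩, hfix]
      simp only [f, decide_eq_true_eq] at h3
      have h4 : ((G - 1) * cartanT tabE7) *ᵥ Pi.single i 1 = 0 := by
        rw [← Matrix.mulVec_mulVec, Matrix.sub_mulVec, Matrix.one_mulVec, h3, sub_self]
      simpa [Matrix.mulVec_single_one] using congrFun h4 p'
    have h3 := congrArg (fun X => X * kKE7) h2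
    have hCK : cartanT tabE7 * kKE7 = (2 : ℤ) • 1 := by decide +kernel
    simp only [Matrix.mul_assoc, hCK, Matrix.mul_smul, Matrix.mul_one, zero_mul] at h3
    exact sub_eq_zero.1 ((smul_eq_zero.1 h3).resolve_left (by norm_num))
  · have h2 : (1 + G + G ^ 2) * cartanT tabE7 = 0 := by
      refine Matrix.ext fun p' i => ?_
      have h3 : f i = false := by rw [hall i ⟨0, by decide⟩]; simpa using hfix
      simp only [f, decide_eq_false_iff_not] at h3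
      have h4 : ((1 + G + G ^ 2) * cartanT tabE7) *ᵥ Pi.single i 1 = 0 := by
        rw [← Matrix.mulVec_mulVec]
        exact (hmoved _ ⟨_, rfl⟩ (col_cartanE7 i) h3).2
      simpa [Matrix.mulVec_single_one] using congrFun h4 p'
    have h3 := congrArg (fun X => X * kKE7) h2
    have hCK : cartanT tabE7 * kKE7 = (2 : ℤ) • 1 := by decide +kernel
    simp only [Matrix.mul_assoc, hCK, Matrix.mul_smul, Matrix.mul_one, zero_mul] at h3
    have h4 : 1 + G + G ^ 2 = 0 := (smul_eq_zero.1 h3).resolve_left (by norm_num)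
    have h5 : ((2 : ℤ) • G + 1) * ((2 : ℤ) • G + 1) =
        (-3 : ℤ) • (1 : Matrix (Fin tabE7.l) (Fin tabE7.l) ℤ) := by
      calc _ = (4 : ℤ) • (1 + G + G ^ 2) + (-3 : ℤ) • (1 : Matrix (Fin tabE7.l) (Fin tabE7.l) ℤ) := by
            noncomm_ring
        _ = _ := by rw [h4, smul_zero, zero_add]
    have h6 := congrArg Matrix.det h5
    rw [Matrix.det_mul, Matrix.det_smul, Matrix.det_one, Fintype.card_fin, mul_one] at h6
    have h7 : ((-3 : ℤ)) ^ tabE7.l = -2187 := by decide +kernel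
    rw [h7] at h6
    nlinarith [mul_self_nonneg (((2 : ℤ) • G + 1).det)]

end CfsgLib.Chev.CycTorus
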