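import Cfsg.Agent.Lib.Chev.CycTorus.TwistE6

/-!
The self-centralising cyclic torus of order `Φ₁₂(q) Φ₃(q) / gcd(3, q - 1)` in E6.
-/

set_option autoImplicit false
set_option maxRecDepth 100000
set_option maxHeartbeats 1000000

namespace CfsgLib.Chev.CycTorus

open Cfsg.Lie Matrix Polynomial CfsgLib.Chev.Cert CfsgLib.Chev.GTorus CfsgLib.Chev.SylowTorus

variable {F : Type*} [Field F] [Fintype F]

/-- The torus in E6. -/
theorem exists_torus_E6 :
    ∃ H : Subgroup ↥(chevE6.group F), IsCyclic ↥H ∧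
      Nat.card ↥H * Nat.gcd 3 (Fintype.card F - 1) = (valE6 (Fintype.card F)).natAbs ∧
      Subgroup.centralizer (H : Set ↥(chevE6.group F)) = H := by
  classical
  set q := Fintype.card F with hq
  have hq2 : 2 ≤ q := Fintype.one_lt_card
  -- the extension of degree twelve
  obtain ⟨p, hp⟩ := CharP.exists F
  obtain ⟨e, hpp, -⟩ := FiniteField.card F p
  have := Fact.mk hpp
  have : NeZero 12 := ⟨by norm_num⟩
  let L := FiniteField.Extension F p 12
  let : Fintype L := Fintype.ofFinite L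
  set Q := Fintype.card L with hQ
  have hQq : Q = q ^ 12 := by
    rw [hQ, ← Nat.card_eq_fintype_card, FiniteField.natCard_extension, Nat.card_eq_fintype_card]
  set f : F →+* L := algebraMap F L
  set σ : L →+* L := (FiniteField.frobeniusAlgHom F L).toRingHom
  have hσ : ∀ x, σ x = x ^ q := fun x => rfl
  have hσsur : Function.Surjective σ := Finite.injective_iff_surjective.1 σ.injective
  have hσfix : ∀ x, σ x = x ↔ ∃ y, f y = x := fun x => mem_range_iff_pow f x
  have hσf : ∀ g : GL chevE6.Idx F, mapGL chevE6 σ (mapGL chevE6 f g) = mapGL chevE6 f g := fun g =>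
    (mapGL_eq_self_iff chevE6 σ _).2 fun i j => (hσfix _).2 ⟨_, rfl⟩
  obtain ⟨D⟩ := nonempty_twistE6 (F := F) hQq f σ hσ
  obtain ⟨gg, hgg, r, hr, hr13, α, x, ω, hω, X, hx, s₀, hk, hym, hmono, M, hM, he⟩ := D
  have : Fact r.Prime := ⟨hr⟩
  have hr3 : r.Coprime 3 := (Nat.coprime_primes hr Nat.prime_three).2 (by omega)
  set sF : GL chevE6.Idx L := mapGL chevE6 f (s₀ : GL chevE6.Idx F) with hsF
  set k := Cert.torusHom (D := chevE6) (T := tabE6) fun i => ω ^ X i with hkdef
  have hkd : gg * sF * gg⁻¹ ∈ chevE6.diagonalSubgroup L := hk ▸ certE6.range_torusHom.le ⟨_, rfl⟩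
  set y := mapGL chevE6 σ gg * gg⁻¹ with hy
  obtain ⟨hchar, -, -⟩ := he.shape
  obtain ⟨hpres, Nm, hMN⟩ := he.iso
  have hdet : ∀ t : ℤ, (Matrix.scalar (Fin tabE6.l) t - Mᵀ).det = valE6 t := det_scalar_sub hchar
  have hB : (Matrix.scalar (Fin tabE6.l) (q : ℤ) - Mᵀ).det ≠ 0 := by
    rw [hdet]; exact (valE6_pos _).ne'
  have hdiv : (Matrix.scalar (Fin tabE6.l) (q : ℤ) - Mᵀ).det.natAbs ∣ Nat.card Lˣ := by
    rw [hdet, Nat.card_units, Nat.card_eq_fintype_card, ← hQ, hQq, ← Int.natCast_dvd_natCast,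
      Int.natAbs_dvd, Nat.cast_sub (Nat.one_le_pow _ _ Fintype.card_pos), Nat.cast_pow, Nat.cast_one]
    exact valE6_dvd _
  have hcyc : IsCyclic ↥(matHom (G := Lˣ) (Matrix.scalar (Fin tabE6.l) (q : ℤ) - Mᵀ)).ker := by
    refine isCyclic_of_torsion fun p' hp' => ?_
    obtain ⟨t, ht, hsq⟩ := exists_shift hp' (q : ℤ)
    refine card_torsion_le hp' _ (Matrix.scalar (Fin tabE6.l) t - Mᵀ) (fun i j => ?_)
      (by rw [hdet]; exact (valE6_pos _).ne') ?_
    · rw [Matrix.sub_apply, Matrix.sub_apply, Matrix.scalar_apply, Matrix.scalar_apply,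
        Matrix.diagonal_apply, Matrix.diagonal_apply]
      split
      · simpa using ht
      · simp
    · rw [hdet, ← Int.natCast_dvd_natCast, Int.dvd_natAbs, Nat.cast_pow]
      exact hsq
  obtain ⟨H, hH, hcard, hmem, -⟩ := twisted_torus certE6 nbrE6 detectsE6 inverseE6 Nat.prime_three
    hσfix hσ hgg hym hM symmE6 hMN hB hdiv hcyc
  rw [hdet, card_kerE6] at hcard
  refine ⟨H, hH, hcard, le_antisymm (fun a ha => ?_) fun a ha => ?_⟩
  · -- the centralizer is inside
    have hs₀H : s₀ ∈ H := (hmem s₀).2 hkd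
    have e1 : s₀ * a = a * s₀ := Subgroup.mem_centralizer_iff.1 ha s₀ hs₀H
    set z := gg * mapGL chevE6 f (a : GL chevE6.Idx F) * gg⁻¹ with hz
    have hzg : z ∈ chevE6.group L :=
      mul_mem (mul_mem hgg (certE6.map_mem_group f a.2)) (inv_mem hgg)
    have hzk : z * k = k * z := by
      have e2 : sF * mapGL chevE6 f (a : GL chevE6.Idx F) =
          mapGL chevE6 f (a : GL chevE6.Idx F) * sF := by
        rw [hsF, ← map_mul, ← map_mul]
        exact congrArg (mapGL chevE6 f) (congrArg Subtype.val e1)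
      calc z * k = gg * (mapGL chevE6 f (a : GL chevE6.Idx F) * sF) * gg⁻¹ := by rw [hz, ← hk]; group
        _ = k * z := by rw [← e2, hz, ← hk]; group
    have hzm := hmono z hzg hzk
    obtain ⟨w, hw, hMz⟩ := exists_acts_word certE6 hzm
    have hxz : x ᵥ* (w.map (reflMat tabE6)).prod.map (Int.castRingHom (ZMod r)) = x := by
      have := vecMul_of_conj_of certE6 inverseE6 hr3 hω hzm hMz X 1 (by
        simp only [one_mul]
        rw [← hkdef, hzk, mul_inv_cancel_right])
      rw [hx]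
      simpa using this
    have hσz : y⁻¹ * mapGL chevE6 σ z = z * y⁻¹ := by
      rw [hz, map_mul, map_mul, map_inv, hσf, hy]
      group
    have hcom : (w.map (reflMat tabE6)).prod * M = M * (w.map (reflMat tabE6)).prod := by
      have h1 := acts_mul hMz hM
      rw [← hσz] at h1
      exact acts_unique_of certE6 (by norm_num) inverseE6 h1
        (acts_mul hM (acts_map certE6 σ hσsur hMz))
    rw [he.eq_one (iso_word refl_isoE6 hw) hcom hxz] at hMz
    exact (hmem a).2 (mem_diagonal_of_acts certE6 hzm hMz)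
  · rw [Subgroup.mem_centralizer_iff]
    intro a' ha'
    have h1 := (hmem a').1 ha'
    have h2 := (hmem a).1 ha
    refine Subtype.ext (mapGL_injective chevE6 f ?_)
    rw [Subgroup.coe_mul, Subgroup.coe_mul, map_mul, map_mul]
    refine mul_left_cancel (a := gg) (mul_right_cancel (b := gg⁻¹) ?_)
    have h3 := certE6.diagonal_comm h1 h2
    calc gg * (mapGL chevE6 f (a' : GL chevE6.Idx F) * mapGL chevE6 f (a : GL chevE6.Idx F)) * gg⁻¹
        = gg * mapGL chevE6 f (a' : GL chevE6.Idx F) * gg⁻¹ *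
          (gg * mapGL chevE6 f (a : GL chevE6.Idx F) * gg⁻¹) := by group
      _ = gg * mapGL chevE6 f (a : GL chevE6.Idx F) * gg⁻¹ *
          (gg * mapGL chevE6 f (a' : GL chevE6.Idx F) * gg⁻¹) := h3
      _ = _ := by group

end CfsgLib.Chev.CycTorus
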