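import Cfsg.Agent.Lib.Chev.CycTorus.TwistE7

/-!
The self-centralising cyclic torus of order `Φ₁₂(q) (q ^ 3 + 1) / gcd(2, q - 1)` in E7.
-/

set_option autoImplicit false
set_option maxRecDepth 100000
set_option maxHeartbeats 1000000

namespace CfsgLib.Chev.CycTorus

open Cfsg.Lie Matrix Polynomial CfsgLib.Chev.Cert CfsgLib.Chev.GTorus CfsgLib.Chev.SylowTorus

theorem nbrE7 : Rel.Nbr tabE7 := by unfold Rel.Nbr; decide +kernel

/-- The complement of the last row. -/
noncomputable def detYE7 : Matrix (Fin tabE7.l) (Fin tabE7.l) ℤ :=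
  fun i j => (kKE7 i j - kUE7 i * kKE7 ⟨6, by decide⟩ j) / 2

theorem detectsE7 : Detects certE7 nbrE7 :=
  detects_of_minRep certE7 nbrE7 minE7 minE7_sq minE7_n minE7_move minE7_base (i₀ := 6)
    (by decide +kernel) minE7_top detYE7 kUE7 (by decide +kernel)

theorem symmE7 : (cartanT tabE7)ᵀ = cartanT tabE7 := by decide +kernel

theorem card_kerE7 {K : Type*} [Field K] [Fintype K] :
    Nat.card (matHom (G := Kˣ) (cartanT tabE7)).ker = Nat.gcd 2 (Fintype.card K - 1) := by
  classical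
  rw [CfsgLib.Chev.card_ker_matHom (cartanT tabE7) (matOf _ snfUE7) (matOf _ snfUiE7)
    (matOf _ snfVE7) (matOf _ snfViE7) (fun i => [1, 1, 1, 1, 1, 1, 2].getD i.1 0) (by decide +kernel)
    (by decide +kernel) (by decide +kernel), Nat.card_eq_fintype_card, Fintype.card_units]
  show ∏ i : Fin 7, Nat.gcd (Fintype.card K - 1) ([1, 1, 1, 1, 1, 1, 2].getD i.1 0) = _
  simp [Fin.prod_univ_succ, Nat.gcd_comm (Fintype.card K - 1)]

variable {F : Type*} [Field F] [Fintype F]

/-- The torus in E7. -/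
theorem exists_torus_E7 :
    ∃ H : Subgroup ↥(chevE7.group F), IsCyclic ↥H ∧
      Nat.card ↥H * Nat.gcd 2 (Fintype.card F - 1) = (valE7 (Fintype.card F)).natAbs ∧
      Subgroup.centralizer (H : Set ↥(chevE7.group F)) = H := by
  classical
  set q := Fintype.card F with hq
  have hq2 : 2 ≤ q := Fintype.one_lt_card
  have hqZ : (2 : ℤ) ≤ q := by exact_mod_cast hq2
  -- the extension of degree twelve
  obtain ⟨p, hp⟩ := CharP.exists F
  obtain ⟨e, hpp, -⟩ := FiniteField.card F p
  have := Fact.mk hpp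
  have : NeZero 12 := ⟨by norm_num⟩
  let L := FiniteField.Extension F p 12
  let : Fintype L := Fintype.ofFinite L
  have hQq : Fintype.card L = q ^ 12 := by
    rw [← Nat.card_eq_fintype_card, FiniteField.natCard_extension, Nat.card_eq_fintype_card]
  set f : F →+* L := algebraMap F L
  set σ : L →+* L := (FiniteField.frobeniusAlgHom F L).toRingHom
  have hσ : ∀ x, σ x = x ^ q := fun x => rfl
  have hσsur : Function.Surjective σ := Finite.injective_iff_surjective.1 σ.injective
  have hσfix : ∀ x, σ x = x ↔ ∃ y, f y = x := fun x => mem_range_iff_pow f x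
  have hσf : ∀ g : GL chevE7.Idx F, mapGL chevE7 σ (mapGL chevE7 f g) = mapGL chevE7 f g := fun g =>
    (mapGL_eq_self_iff chevE7 σ _).2 fun i j => (hσfix _).2 ⟨_, rfl⟩
  obtain ⟨gg, M, M₀, N₀, hgg, hym, hM, hIM, hM0, hdet⟩ := exists_twist_E7 (F := F) hQq f σ hσ
  set y := mapGL chevE7 σ gg * gg⁻¹ with hy
  have hdetM : ∀ t : ℤ, 2 ≤ t → (Matrix.scalar (Fin tabE7.l) t - M).det = valE7 t := fun t ht => by
    have h1 := hdet t 1 ht
    rw [one_smul] at h1
    rw [hM0, ← sub_add, h1, valE7]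
    ring
  set B := Matrix.scalar (Fin tabE7.l) (q : ℤ) - Mᵀ with hBdef
  have hBT : B = (Matrix.scalar (Fin tabE7.l) (q : ℤ) - M)ᵀ := by
    rw [hBdef, Matrix.transpose_sub, Matrix.scalar_apply, Matrix.diagonal_transpose]
  have hBdet : B.det = valE7 q := by rw [hBT, Matrix.det_transpose, hdetM _ hqZ]
  have hB : B.det ≠ 0 := by rw [hBdet]; exact (valE7_pos hqZ).ne'
  have hdiv : B.det.natAbs ∣ Nat.card Lˣ := by
    rw [hBdet, Nat.card_units, Nat.card_eq_fintype_card, hQq, ← Int.natCast_dvd_natCast,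
      Int.natAbs_dvd, Nat.cast_sub (Nat.one_le_pow _ _ (by omega)), Nat.cast_pow, Nat.cast_one]
    exact valE7_dvd _
  have hcyc : IsCyclic ↥(matHom (G := Lˣ) B).ker := by
    refine isCyclic_of_torsion fun p' hp' => ?_
    obtain ⟨t, s, ht2, ht, hs, hsq⟩ := exists_shift_E7 hp' hqZ
    refine card_torsion_le hp' _ (Matrix.scalar (Fin tabE7.l) t - M₀ + s • N₀)ᵀ (fun i j => ?_) ?_ ?_
    · rw [hBT, hM0]
      simp only [Matrix.transpose_apply, Matrix.sub_apply, Matrix.add_apply, Matrix.smul_apply,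
        Matrix.scalar_apply, Matrix.diagonal_apply, smul_eq_mul]
      split
      · have : (q : ℤ) - (M₀ j i - N₀ j i) - (t - M₀ j i + s * N₀ j i) =
            ((q : ℤ) - t) + (1 - s) * N₀ j i := by ring
        rw [this]
        exact dvd_add ht (hs.mul_right _)
      · have : (0 : ℤ) - (M₀ j i - N₀ j i) - (0 - M₀ j i + s * N₀ j i) = (1 - s) * N₀ j i := by ring
        rw [this]
        exact hs.mul_right _
    · rw [Matrix.det_transpose, hdet t s ht2]
      intro h0
      exact hsq (h0 ▸ dvd_zero _)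
    · rw [Matrix.det_transpose, hdet t s ht2, ← Int.natCast_dvd_natCast, Int.dvd_natAbs, Nat.cast_pow]
      exact hsq
  obtain ⟨hpres, Nm, hMN⟩ := id hIM
  obtain ⟨H, hH, hcard, hmem, hsurj⟩ := twisted_torus certE7 nbrE7 detectsE7 inverseE7 Nat.prime_two
    hσfix hσ hgg hym hM symmE7 hMN hB hdiv hcyc
  rw [hBdet, card_kerE7] at hcard
  -- no eigenvalue one
  have hch : M.charpoly = (Polynomial.X ^ 4 - Polynomial.X ^ 2 + 1) * (Polynomial.X ^ 3 + 1) := by
    refine Polynomial.eq_of_infinite_eval_eq _ _ ((Set.Ici_infinite (2 : ℤ)).mono fun t ht => ?_)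
    show M.charpoly.eval t = Polynomial.eval t _
    rw [Matrix.eval_charpoly, hdetM t ht, valE7]
    simp
  have h1 : ∀ v, M *ᵥ v = v → v = 0 := fun v hv => by
    refine Matrix.eq_zero_of_mulVec_eq_zero (M := Matrix.scalar (Fin tabE7.l) (1 : ℤ) - M) ?_ ?_
    · rw [← Matrix.eval_charpoly, hch]; simp
    · rw [map_one, Matrix.sub_mulVec, Matrix.one_mulVec, hv, sub_self]
  have hBt : Bᵀ = (q : ℤ) • 1 - M := by
    rw [hBT, Matrix.transpose_transpose, Matrix.smul_one_eq_diagonal]
    rfl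
  have hdetq : ((q : ℤ) • 1 - M).det ≠ 0 := by rw [← hBt, Matrix.det_transpose]; exact hB
  -- a generator
  obtain ⟨⟨cg, hcg⟩, hgen⟩ := IsCyclic.exists_generator (α := ↥(matHom (G := Lˣ) B).ker)
  obtain ⟨a₀, ha₀, ea₀⟩ := hsurj cg hcg
  let τ : (Fin tabE7.l → Lˣ) →* GL chevE7.Idx L := Cert.torusHom (D := chevE7) (T := tabE7)
  have hall : ∀ a : Fin tabE7.l → ℤ, ∏ i, cg i ^ a i = 1 →
      ∃ v, a = ((q : ℤ) • 1 - M) *ᵥ v := fun a ha => by
    rw [← hBt]
    refine exists_of_orth B hB hdiv a fun c hc => ?_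
    obtain ⟨k, hk⟩ := Subgroup.mem_zpowers_iff.1 (hgen ⟨c, hc⟩)
    have hk' : cg ^ k = c := congrArg Subtype.val hk
    rw [← hk']
    have hx : ∀ i, (cg ^ k) i ^ a i = (cg i ^ a i) ^ k := fun i => by
      rw [Pi.pow_apply, ← _root_.zpow_mul, ← _root_.zpow_mul, mul_comm]
    simp only [hx, Finset.prod_zpow, ha, _root_.one_zpow]
  have hne : ∀ s < tabE7.n, charOf tabE7 (Cert.extC tabE7 cg) s ≠ 1 := by
    intro s hs e1
    rw [charOf_extC, Units.val_eq_one] at e1
    obtain ⟨v, hv⟩ := hall _ e1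
    exact root_not_mem hq2 hIM h1 (rootsE7 s hs).2.1 v hv
  refine ⟨H, hH, hcard, le_antisymm (fun a ha => ?_) fun a ha => ?_⟩
  · -- the centralizer is inside
    have e1 : a₀ * a = a * a₀ := Subgroup.mem_centralizer_iff.1 ha a₀ ha₀
    set z := gg * mapGL chevE7 f (a : GL chevE7.Idx F) * gg⁻¹ with hz
    have hzg : z ∈ chevE7.group L := mul_mem (mul_mem hgg (certE7.map_mem_group f a.2)) (inv_mem hgg)
    have hzk : z * τ cg = τ cg * z := by
      have e2 : mapGL chevE7 f (a₀ : GL chevE7.Idx F) * mapGL chevE7 f (a : GL chevE7.Idx F) =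
          mapGL chevE7 f (a : GL chevE7.Idx F) * mapGL chevE7 f (a₀ : GL chevE7.Idx F) := by
        rw [← map_mul, ← map_mul]
        exact congrArg (mapGL chevE7 f) (congrArg Subtype.val e1)
      show z * Cert.torusHom cg = Cert.torusHom cg * z
      rw [hz, ← ea₀]
      calc _ = gg * (mapGL chevE7 f (a : GL chevE7.Idx F) * mapGL chevE7 f (a₀ : GL chevE7.Idx F)) *
            gg⁻¹ := by group
        _ = _ := by rw [← e2]; group
    have hzm : z ∈ chevE7.monomialSubgroup L := mem_monomial_of_commute certE7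
      (c := Cert.extC tabE7 cg) (k := τ cg) (fun i _ => Cert.extC_ne_zero cg i) rfl hne hzg hzk.symm
    obtain ⟨w, hw, hMz⟩ := exists_acts_word certE7 hzm
    set E := (w.map (reflMat tabE7)).prod with hE
    have hIE : Iso (cartanT tabE7) kKE7 E := iso_word refl_isoE7 hw
    have hσz : y⁻¹ * mapGL chevE7 σ z = z * y⁻¹ := by
      rw [hz, map_mul, map_mul, map_inv, hσf, hy]
      group
    have hcom : E * M = M * E := by
      have h2 := acts_mul hMz hM
      rw [← hσz] at h2
      exact acts_unique_of certE7 (by norm_num) inverseE7 h2 (acts_mul hM (acts_map certE7 σ hσsur hMz))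
    have hker : matHom Eᵀ cg * cg⁻¹ ∈ (matHom (G := Lˣ) (cartanT tabE7)).ker := by
      rw [← certE7.ker_torusHom, MonoidHom.mem_ker, map_mul, map_inv, mul_inv_eq_one]
      have h2 := conj_torusHom certE7 hzm hMz cg
      have h3 : z * τ cg * z⁻¹ = τ cg := by rw [hzk, mul_inv_cancel_right]
      exact mul_left_cancel (mul_right_cancel (h2.trans h3.symm))
    have hcong : ∀ a : Fin tabE7.l → ℤ, (∃ m, a = cartanT tabE7 *ᵥ m) →
        ∃ v, E *ᵥ a - a = ((q : ℤ) • 1 - M) *ᵥ v := by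
      rintro _ ⟨m, rfl⟩
      refine hall _ ?_
      set v := cartanT tabE7 *ᵥ m with hv
      have h4 : ∏ i, (matHom Eᵀ cg * cg⁻¹) i ^ v i = 1 := by
        rw [hv, prod_zpow_mulVec, symmE7, MonoidHom.mem_ker.1 hker]
        simp only [Pi.one_apply, _root_.one_zpow, Finset.prod_const_one]
      simp only [Pi.mul_apply, Pi.inv_apply, _root_.mul_zpow, _root_.inv_zpow, Finset.prod_mul_distrib,
        Finset.prod_inv_distrib] at h4
      simp only [Pi.sub_apply, _root_.zpow_sub, Finset.prod_mul_distrib, Finset.prod_inv_distrib]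
      rw [prod_zpow_mulVec E cg v]
      exact h4
    rw [eq_one_of_congr hq2 hIM h1 hdetq hIE hcom hcong] at hMz
    exact (hmem a).2 (mem_diagonal_of_acts certE7 hzm hMz)
  · rw [Subgroup.mem_centralizer_iff]
    intro a' ha'
    have h2 := certE7.diagonal_comm ((hmem a').1 ha') ((hmem a).1 ha)
    refine Subtype.ext (mapGL_injective chevE7 f ?_)
    rw [Subgroup.coe_mul, Subgroup.coe_mul, map_mul, map_mul]
    refine mul_left_cancel (a := gg) (mul_right_cancel (b := gg⁻¹) ?_)
    calc gg * (mapGL chevE7 f (a' : GL chevE7.Idx F) * mapGL chevE7 f (a : GL chevE7.Idx F)) * gg⁻¹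
        = gg * mapGL chevE7 f (a' : GL chevE7.Idx F) * gg⁻¹ *
          (gg * mapGL chevE7 f (a : GL chevE7.Idx F) * gg⁻¹) := by group
      _ = gg * mapGL chevE7 f (a : GL chevE7.Idx F) * gg⁻¹ *
          (gg * mapGL chevE7 f (a' : GL chevE7.Idx F) * gg⁻¹) := h2
      _ = _ := by group

end CfsgLib.Chev.CycTorus
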