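import Cfsg.Agent.Lib.Chev.CycTorus.ShapeE6

/-!
No root is orthogonal to the eigenvector, and the isometry is self-centralising on it.
-/

set_option autoImplicit false
set_option maxRecDepth 100000
set_option maxHeartbeats 1000000

namespace CfsgLib.Chev.CycTorus

open Matrix CfsgLib.Chev.SylowTorus CfsgLib.Chev.GTorus

/-- The arithmetic of the exceptional pairings. -/
theorem pairing_arith {r : ℕ} (hr : 13 ≤ r) {t₁ t₂ : ℤ} (h1 : -2 ≤ t₁ ∧ t₁ ≤ 2)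
    (h2 : -1 ≤ t₂ ∧ t₂ ≤ 1) (h5 : -2 ≤ t₂ - 1 - t₁ ∧ t₂ - 1 - t₁ ≤ 2)
    (hd : (r : ℤ) ∣ (t₁ + t₂ + 2) ^ 2 - 3 * (1 + t₁) ^ 2) : t₁ = -1 ∧ t₂ = -1 := by
  obtain ⟨a1, b1⟩ := h1
  obtain ⟨a2, b2⟩ := h2
  obtain ⟨a5, b5⟩ := h5
  interval_cases t₁ <;> interval_cases t₂ <;> first
    | exact ⟨rfl, rfl⟩
    | omega
    | (exfalso; norm_num at hd; omega)
    | (exfalso; norm_num at hd; have := Int.le_of_dvd (by norm_num) hd; omega)

variable {M : Matrix (Fin tabE6.l) (Fin tabE6.l) ℤ}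
  {r : ℕ} [Fact r.Prime] {α : ZMod r} {x : Fin tabE6.l → ZMod r}

theorem Eig.alpha_rel (e : Eig M α x) : α ^ 4 - α ^ 2 + 1 = 0 := by
  have h1 : α ^ 12 = 1 := by rw [← e.ord]; exact pow_orderOf_eq_one α
  have hne : ∀ k : ℕ, 0 < k → k < 12 → α ^ k ≠ 1 := fun k hk hk' h => by
    have := Nat.le_of_dvd hk (e.ord ▸ orderOf_dvd_of_pow_eq_one h)
    omega
  have h6 : α ^ 6 + 1 = 0 := by
    have h : (α ^ 6 - 1) * (α ^ 6 + 1) = 0 := by linear_combination h1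
    exact (mul_eq_zero.1 h).resolve_left (sub_ne_zero.2 (hne 6 (by norm_num) (by norm_num)))
  have h2 : α ^ 2 + 1 ≠ 0 := fun h =>
    hne 4 (by norm_num) (by norm_num) (by linear_combination (α ^ 2 - 1) * h)
  exact (mul_eq_zero.1 (show (α ^ 2 + 1) * (α ^ 4 - α ^ 2 + 1) = 0 by linear_combination h6)).resolve_left h2

/-- No root is orthogonal to the eigenvector. -/
theorem Eig.regular (e : Eig M α x) {a u : Fin tabE6.l → ℤ} (hu : kKE6 *ᵥ a = (3 : ℤ) • u)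
    (hq : qf kKE6 a = 6) : x ⬝ᵥ (fun i => (a i : ZMod r)) ≠ 0 := by
  classical
  intro hxa
  obtain ⟨n, hn, hM⟩ := iso_finite_order evE6 e.iso
  obtain ⟨-, hmult, hf⟩ := e.shape
  obtain ⟨hIa, -, hua⟩ := iso_refl evE6 (u := u) hu (by rw [hq]; norm_num)
  set t : ℕ → ℤ := fun j => u ⬝ᵥ (M ^ j) *ᵥ a with ht
  have hS : ∀ i j : ℕ, ((M ^ i) *ᵥ a) ⬝ᵥ kKE6 *ᵥ ((M ^ (i + j)) *ᵥ a) = 3 * t j := by
    intro i j
    rw [pow_add, ← Matrix.mulVec_mulVec, bil_map (iso_pow e.iso i), bil_comm evE6, hu,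
      dotProduct_smul, smul_eq_mul, dotProduct_comm]
  have hS' : ∀ i j : ℕ, ((M ^ (i + j)) *ᵥ a) ⬝ᵥ kKE6 *ᵥ ((M ^ i) *ᵥ a) = 3 * t j := fun i j => by
    rw [bil_comm evE6, hS]
  have hfa : ∀ v : Fin tabE6.l → ℤ, v ⬝ᵥ kKE6 *ᵥ ((M ^ 6) *ᵥ a) + v ⬝ᵥ kKE6 *ᵥ ((M ^ 5) *ᵥ a) -
      v ⬝ᵥ kKE6 *ᵥ ((M ^ 3) *ᵥ a) + v ⬝ᵥ kKE6 *ᵥ ((M ^ 1) *ᵥ a) +
      v ⬝ᵥ kKE6 *ᵥ ((M ^ 0) *ᵥ a) = 0 := fun v => by
    have h1 := congrArg (fun X => v ⬝ᵥ kKE6 *ᵥ (X *ᵥ a)) hf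
    simpa [Matrix.add_mulVec, Matrix.sub_mulVec, Matrix.mulVec_add, Matrix.mulVec_sub,
      dotProduct_add, dotProduct_sub] using h1
  have t0 : t 0 = 2 := by simpa [ht] using hua
  have e3 : t 3 = 1 - t 2 := by
    have h1 := hfa ((M ^ 3) *ᵥ a)
    rw [hS 3 3, hS 3 2, hS 3 0, hS' 1 2, hS' 0 3, t0] at h1
    linarith
  have e4 : t 4 = -1 := by
    have h1 := hfa ((M ^ 2) *ᵥ a)
    rw [hS 2 4, hS 2 3, hS 2 1, hS' 1 1, hS' 0 2] at h1
    linarith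
  have e5 : t 5 = t 2 - 1 - t 1 := by
    have h1 := hfa ((M ^ 1) *ᵥ a)
    rw [hS 1 5, hS 1 4, hS 1 2, hS 1 0, hS' 0 1, t0, e4] at h1
    linarith
  have e6 : t 6 = -2 * t 2 := by
    have h1 := hfa ((M ^ 0) *ᵥ a)
    rw [hS' 0 0] at h1
    have g6 := hS 0 6; have g5 := hS 0 5; have g3 := hS 0 3; have g1 := hS 0 1
    norm_num at g6 g5 g3 g1 h1
    linarith
  have hbd : ∀ j, -2 ≤ t j ∧ t j ≤ 2 := fun j => by
    have h1 := qf_nonneg evE6 (a + (M ^ j) *ᵥ a)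
    have h2 := qf_nonneg evE6 (a + (-1 : ℤ) • ((M ^ j) *ᵥ a))
    have hj : a ⬝ᵥ kKE6 *ᵥ ((M ^ j) *ᵥ a) = 3 * t j := by simpa using hS 0 j
    have hqj : qf kKE6 ((M ^ j) *ᵥ a) = 6 := by rw [← hq]; exact bil_map (iso_pow e.iso j) a a
    rw [qf_add evE6, hj, hq, hqj] at h1
    rw [qf_add evE6, qf_smul, Matrix.mulVec_smul, dotProduct_smul, hj, hq, hqj, smul_eq_mul] at h2
    constructor <;> linarith
  -- the eigencomponent of `a` vanishes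
  let φ := Int.castRingHom (ZMod r)
  set A := M.map φ with hA
  have hA6 : A ^ 6 + A ^ 5 - A ^ 3 + A + 1 = 0 := by
    have h1 := congrArg φ.mapMatrix hf
    simpa only [map_add, map_sub, map_pow, map_one, map_zero, RingHom.mapMatrix_apply, ← hA] using h1
  set G := A ^ 5 + (1 + α) • A ^ 4 + (α + α ^ 2) • A ^ 3 + (-1 + α ^ 2 + α ^ 3) • A ^ 2 +
    (-α + α ^ 3 + α ^ 4) • A + (1 - α ^ 2 + α ^ 4 + α ^ 5) • 1 with hG
  have hfα : α ^ 6 + α ^ 5 - α ^ 3 + α + 1 = 0 := by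
    linear_combination (α ^ 2 + α + 1) * e.alpha_rel
  have hGA : G * A = α • G := by
    rw [← sub_eq_zero]
    have h1 : G * A - α • G = (A ^ 6 + A ^ 5 - A ^ 3 + A + 1) -
        (α ^ 6 + α ^ 5 - α ^ 3 + α + 1) • 1 := by
      rw [hG]
      simp only [add_mul, smul_mul_assoc, one_mul, ← pow_succ, ← pow_two, smul_add, smul_smul]
      norm_num
      module
    rw [h1, hA6, hfα, zero_smul, sub_zero]
  have hGa : G *ᵥ (fun i => (a i : ZMod r)) = 0 := by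
    funext i
    have hrow : (G i) ᵥ* A = α • G i := by
      funext j
      exact congrFun (congrFun hGA i) j
    obtain ⟨s, hs⟩ := eigen_span hmult e.ne e.eig hrow
    show G i ⬝ᵥ _ = 0
    rw [hs, smul_dotProduct, hxa, smul_zero]
  set w : Fin tabE6.l → ZMod r := fun i => ((kKE6 *ᵥ ((M ^ 2) *ᵥ a)) i : ZMod r) with hw
  have hwp : ∀ j : ℕ, w ⬝ᵥ (A ^ j) *ᵥ (fun i => (a i : ZMod r)) =
      ((((M ^ j) *ᵥ a) ⬝ᵥ kKE6 *ᵥ ((M ^ 2) *ᵥ a) : ℤ) : ZMod r) := by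
    intro j
    rw [dotProduct_comm ((M ^ j) *ᵥ a), ← eq_intCast φ, RingHom.map_dotProduct, hA, ← Matrix.map_pow]
    congr 1
    funext i
    exact (RingHom.map_mulVec φ _ _ i).symm
  have hsum := congrArg (fun v => w ⬝ᵥ v) hGa
  simp only [hG, Matrix.add_mulVec, Matrix.smul_mulVec, dotProduct_add, dotProduct_smul,
    dotProduct_zero, smul_eq_mul] at hsum
  have hw1 := hwp 1
  have hw0 := hwp 0
  rw [pow_one, pow_one, show ((M ^ 2) : Matrix _ _ ℤ) = M ^ (1 + 1) from rfl] at hw1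
  rw [pow_zero] at hw0
  rw [show (M : Matrix _ _ ℤ) *ᵥ a = (M ^ 1) *ᵥ a by rw [pow_one], hS 1 1] at hw1
  have q0 : ((M ^ 0) *ᵥ a) ⬝ᵥ kKE6 *ᵥ ((M ^ 2) *ᵥ a) = 3 * t 2 := hS 0 2
  rw [q0] at hw0
  rw [hwp 5, hwp 4, hwp 3, hwp 2, hw1, hw0, hS' 2 3, hS' 2 2, hS' 2 1, hS' 2 0, t0, e3] at hsum
  push_cast at hsum
  have h3 : (3 : ZMod r) ≠ 0 := fun h0 => by
    have h1 : ((3 : ℕ) : ZMod r) = 0 := by exact_mod_cast h0
    have := Nat.le_of_dvd (by norm_num) ((ZMod.natCast_eq_zero_iff _ _).1 h1)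
    have := e.big
    omega
  have hE : ((t 1 + t 2 + 2 : ℤ) : ZMod r) * α ^ 3 + ((1 + t 1 : ℤ) : ZMod r) * (2 * α ^ 2 - 1) = 0 := by
    refine (mul_eq_zero.1 (?_ : (3 : ZMod r) * _ = 0)).resolve_left h3
    push_cast
    linear_combination hsum - 3 * (t 2 : ZMod r) * α * e.alpha_rel -
      3 * ((t 2 : ZMod r) + t 1) * e.alpha_rel
  have hd : ((r : ℕ) : ℤ) ∣ (t 1 + t 2 + 2) ^ 2 - 3 * (1 + t 1) ^ 2 := by
    rw [← ZMod.intCast_zmod_eq_zero_iff_dvd]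
    have h6 : α ^ 6 = -1 := by linear_combination (α ^ 2 + 1) * e.alpha_rel
    push_cast at hE ⊢
    linear_combination (-((t 1 : ZMod r) + t 2 + 2) * α ^ 3 + (1 + (t 1 : ZMod r)) * (2 * α ^ 2 - 1)) * hE +
      ((t 1 : ZMod r) + t 2 + 2) ^ 2 * h6 - 4 * (1 + (t 1 : ZMod r)) ^ 2 * e.alpha_rel
  obtain ⟨h1, h2⟩ := pairing_arith e.big (hbd 1)
    (by have := hbd 6; rw [e6] at this; omega) (e5 ▸ hbd 5) hd
  -- the twisted isometry fixing `a`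
  set b := M *ᵥ a with hb
  set ub := (M ^ (n - 1))ᵀ *ᵥ u with hub
  have hKM : kKE6 * M = (M ^ (n - 1))ᵀ * kKE6 := by
    conv_lhs => rw [← (iso_pow e.iso (n - 1)).1]
    rw [mul_assoc, ← pow_succ, Nat.sub_add_cancel hn, hM, mul_one]
  have hubK : kKE6 *ᵥ b = (3 : ℤ) • ub := by
    rw [hb, Matrix.mulVec_mulVec, hKM, ← Matrix.mulVec_mulVec, hu, Matrix.mulVec_smul]
  have hqb : qf kKE6 b = 6 := by rw [← hq]; exact bil_map e.iso a a
  obtain ⟨hIb, -, hubb⟩ := iso_refl evE6 (u := ub) hubK (by rw [hqb]; norm_num)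
  set M' := (1 - Matrix.vecMulVec b ub) * ((1 - Matrix.vecMulVec a u) * M) with hM'
  have hfix : ∀ (v w : Fin tabE6.l → ℤ), x ⬝ᵥ (fun i => (v i : ZMod r)) = 0 →
      x ᵥ* ((1 - Matrix.vecMulVec v w).map φ) = x := by
    intro v w hv
    rw [Matrix.map_sub (hf := map_sub φ), Matrix.map_one _ (map_zero _) (map_one _),
      Matrix.vecMul_sub, Matrix.vecMul_one, sub_eq_self]
    funext j
    calc (x ᵥ* (Matrix.vecMulVec v w).map φ) j = (x ⬝ᵥ fun i => (v i : ZMod r)) * (w j : ZMod r) := by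
          simp [Matrix.vecMul, dotProduct, Matrix.vecMulVec_apply, Finset.sum_mul, φ, mul_assoc]
      _ = _ := by rw [hv, zero_mul]; rfl
  have hxb : x ⬝ᵥ (fun i => (b i : ZMod r)) = 0 := by
    rw [show (fun i => (b i : ZMod r)) = A *ᵥ fun i => (a i : ZMod r) from
      funext fun i => RingHom.map_mulVec φ _ _ i, Matrix.dotProduct_mulVec, hA, e.eig,
      smul_dotProduct, hxa, smul_zero]
  have e' : Eig M' α x := by
    refine ⟨iso_mul hIb (iso_mul hIa e.iso), e.big, e.ord, e.ne, ?_⟩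
    rw [hM', Matrix.map_mul, Matrix.map_mul, ← Matrix.vecMul_vecMul, hfix b ub hxb,
      ← Matrix.vecMul_vecMul, hfix a u hxa, e.eig]
  have hM'a : M' *ᵥ a = a := by
    have hub_a : ub ⬝ᵥ a = -1 := by
      have : (3 : ℤ) * (ub ⬝ᵥ a) = 3 * t 1 := by
        rw [← smul_eq_mul, ← smul_dotProduct, ← hubK, dotProduct_comm, hb]
        simpa using hS 0 1
      omega
    have hub' : u ⬝ᵥ b = -1 := by
      have : t 1 = -1 := h1
      simpa [ht, hb] using this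
    rw [hM', ← Matrix.mulVec_mulVec, ← Matrix.mulVec_mulVec, ← hb]
    simp only [Matrix.sub_mulVec, Matrix.one_mulVec, Matrix.vecMulVec_mulVec, hub', op_smul_eq_smul,
      dotProduct_sub, dotProduct_smul, hubb, smul_eq_mul, hub_a]
    module
  obtain ⟨-, -, hf'⟩ := e'.shape
  have hpow : ∀ j : ℕ, M' ^ j *ᵥ a = a := fun j => by
    induction j with
    | zero => simp
    | succ j ih => rw [pow_succ, ← Matrix.mulVec_mulVec, hM'a, ih]
  have h9 := congrArg (fun X => X *ᵥ a) hf'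
  simp only [Matrix.add_mulVec, Matrix.sub_mulVec, Matrix.one_mulVec, hpow, hM'a,
    Matrix.zero_mulVec] at h9
  have ha0 : a = 0 := by
    funext i
    have := congrFun h9 i
    simp at this ⊢
    omega
  rw [ha0] at hq
  simp [qf] at hq

end CfsgLib.Chev.CycTorus
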