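import Cfsg.Agent.Lib.Chev.CycTorus.Isom
import Cfsg.Agent.Lib.Chev.SylowTorus.Bound

/-!
Isometries of the E6 lattice with an eigenvalue of order 12 modulo a large prime.
-/

set_option autoImplicit false
set_option maxRecDepth 100000

namespace CfsgLib.Chev.CycTorus

open Matrix Polynomial CfsgLib.Chev.SylowTorus CfsgLib.Chev.GTorus

theorem cyclotomic_twelve : cyclotomic 12 ℤ = Polynomial.X ^ 4 - Polynomial.X ^ 2 + 1 := by
  rw [show (12 : ℕ) = 6 * 2 by norm_num,
    ← cyclotomic_expand_eq_cyclotomic Nat.prime_two (by norm_num : 2 ∣ 6) ℤ, cyclotomic_six]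
  simp [map_sub, map_add, map_one, ← pow_mul]

theorem eq_quadratic {R : ℤ[X]} (hR : R.Monic) (h2 : R.natDegree = 2) :
    R = Polynomial.X ^ 2 + Polynomial.C (R.coeff 1) * Polynomial.X + Polynomial.C (R.coeff 0) := by
  conv_lhs => rw [hR.as_sum, h2]
  simp [Finset.sum_range_succ]
  ring

/-- A quadratic factor of a power of `X ^ n - 1`. -/
theorem quadratic_bound {n l : ℕ} (hn : 0 < n) {b c : ℤ}
    (h : Polynomial.X ^ 2 + Polynomial.C b * Polynomial.X + Polynomial.C c ∣
      ((Polynomial.X : ℤ[X]) ^ n - 1) ^ l) :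
    (-2 ≤ b ∧ b ≤ 2) ∧ (c = 1 ∨ c = -1) := by
  set R : ℂ[X] := Polynomial.X ^ 2 + Polynomial.C (b : ℂ) * Polynomial.X + Polynomial.C (c : ℂ)
    with hRdef
  have hR : R ∣ ((Polynomial.X : ℂ[X]) ^ n - 1) ^ l := by
    simpa [hRdef] using Polynomial.map_dvd (Int.castRingHom ℂ) h
  have hroot : ∀ z : ℂ, z ^ 2 + b * z + c = 0 → ‖z‖ = 1 := by
    intro z hz
    have h1 := Polynomial.eval_dvd (x := z) hR
    simp only [hRdef, eval_add, eval_pow, eval_X, eval_mul, eval_C, hz, zero_dvd_iff, eval_sub,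
      eval_one] at h1
    exact Complex.norm_eq_one_of_pow_eq_one (sub_eq_zero.1 (pow_eq_zero_iff'.1 h1).1) hn.ne'
  obtain ⟨z, hz⟩ := IsAlgClosed.exists_root R (by
    rw [show R.degree = 2 by rw [hRdef]; compute_degree!]; norm_num)
  have hz' : z ^ 2 + (b : ℂ) * z + c = 0 := by simpa [hRdef] using hz
  have hw : (-(b : ℂ) - z) ^ 2 + b * (-(b : ℂ) - z) + c = 0 := by linear_combination hz'
  have n1 := hroot z hz'
  have n2 := hroot _ hw
  constructor
  · have h3 : ‖(b : ℂ)‖ ≤ 2 := by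
      calc ‖(b : ℂ)‖ = ‖(-(b : ℂ) - z) + z‖ := by rw [sub_add_cancel, norm_neg]
        _ ≤ ‖-(b : ℂ) - z‖ + ‖z‖ := norm_add_le _ _
        _ = 2 := by rw [n1, n2]; norm_num
    rw [Complex.norm_intCast, abs_le] at h3
    exact ⟨by exact_mod_cast h3.1, by exact_mod_cast h3.2⟩
  · have h4 : ‖(c : ℂ)‖ = 1 := by
      rw [show (c : ℂ) = z * (-(b : ℂ) - z) by linear_combination hz', norm_mul, n1, n2, one_mul]
    rw [Complex.norm_intCast] at h4
    exact eq_or_eq_neg_of_abs_eq (by exact_mod_cast h4)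

theorem hconnE6 : ∀ f : Fin tabE6.l → Bool,
    (∀ i j, cartanT tabE6 i j ≠ 0 → f i = f j) → ∀ i j, f i = f j := by
  intro f hf
  have h02 := hf ⟨0, by decide⟩ ⟨2, by decide⟩ (by decide +kernel)
  have h23 := hf ⟨2, by decide⟩ ⟨3, by decide⟩ (by decide +kernel)
  have h13 := hf ⟨1, by decide⟩ ⟨3, by decide⟩ (by decide +kernel)
  have h34 := hf ⟨3, by decide⟩ ⟨4, by decide⟩ (by decide +kernel)
  have h45 := hf ⟨4, by decide⟩ ⟨5, by decide⟩ (by decide +kernel)
  have key : ∀ i : Fin tabE6.l, f i = f ⟨3, by decide⟩ := by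
    rintro ⟨i, hi⟩
    have hi6 : i < 6 := hi
    interval_cases i
    · rw [h02, h23]
    · rw [h13]
    · rw [h23]
    · rfl
    · rw [h34]
    · rw [← h45, h34]
  intro i j
  rw [key i, key j]

theorem hdiagE6 : ∀ i, cartanT tabE6 i i = 2 := by decide +kernel

theorem det_cartanE6 : (3 : ℤ) ∣ (cartanT tabE6).det := by decide +kernel

variable {M : Matrix (Fin tabE6.l) (Fin tabE6.l) ℤ}
  {r : ℕ} [Fact r.Prime] {α : ZMod r} {x : Fin tabE6.l → ZMod r}

/-- The data: an isometry with an eigenvalue of order 12 modulo `r`. -/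
structure Eig (M : Matrix (Fin tabE6.l) (Fin tabE6.l) ℤ) (α : ZMod r)
    (x : Fin tabE6.l → ZMod r) : Prop where
  iso : Iso (cartanT tabE6) kKE6 M
  big : 13 ≤ r
  ord : orderOf α = 12
  ne : x ≠ 0
  eig : x ᵥ* M.map (Int.castRingHom (ZMod r)) = α • x

theorem Eig.ne_zero (e : Eig M α x) : α ≠ 0 := by
  intro h0
  have h1 := pow_orderOf_eq_one α
  rw [e.ord, h0, zero_pow (by norm_num)] at h1
  exact zero_ne_one h1

/-- The shape of the characteristic polynomial. -/
theorem Eig.shape (e : Eig M α x) :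
    M.charpoly = cyclotomic 12 ℤ * (Polynomial.X ^ 2 + Polynomial.X + 1) ∧
      ((M.charpoly).map (Int.castRingHom (ZMod r))).rootMultiplicity α ≤ 1 ∧
      M ^ 6 + M ^ 5 - M ^ 3 + M + 1 = 0 := by
  classical
  obtain ⟨n, hn, hM⟩ := iso_finite_order evE6 e.iso
  have hphi : (orderOf α).totient = 4 := by rw [e.ord]; decide
  have hl : tabE6.l = 6 := rfl
  obtain ⟨k, R, hc, hRm, -, hdeg, hle⟩ := exists_mult hn hM e.ne_zero (wild_of_totient e.ne_zero (by
    rw [hphi, hl]; have := e.big; omega))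
  rw [hphi, hl] at hdeg
  have h1 := one_le_mult e.ne e.eig
  have hk : k = 1 := by omega
  subst hk
  rw [e.ord, pow_one] at hc
  have hR2 : R.natDegree = 2 := by omega
  obtain ⟨b, c, rfl⟩ : ∃ b c, R = Polynomial.X ^ 2 + Polynomial.C b * Polynomial.X + Polynomial.C c :=
    ⟨_, _, eq_quadratic hRm hR2⟩
  obtain ⟨hb, hcc⟩ := quadratic_bound hn ((Dvd.intro_left _ hc.symm).trans (charpoly_dvd hn hM))
  have h3 : (3 : ℤ) ∣ M.charpoly.eval 1 := dvd_det_sub_one 3 det_cartanE6 e.iso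
  rw [hc, cyclotomic_twelve] at h3
  simp at h3
  by_cases hgood : b = 1 ∧ c = 1
  · obtain ⟨rfl, rfl⟩ := hgood
    have hc' : M.charpoly = cyclotomic 12 ℤ * (Polynomial.X ^ 2 + Polynomial.X + 1) := by
      rw [hc]; simp
    refine ⟨hc', hle, ?_⟩
    have h4 := aeval_radical hn hM one_pos (d := 12) (by rw [pow_one]; exact hc)
    rw [cyclotomic_twelve] at h4
    simp at h4
    rw [← h4]
    noncomm_ring
  exfalso
  -- the other shapes fix a vector and split the lattice
  have hbad : (M ^ 2 - 1) * (M ^ 4 - M ^ 2 + 1) = 0 := by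
    obtain ⟨hb1, hb2⟩ := hb
    rcases hcc with rfl | rfl
    · obtain rfl : b = -2 := by
        interval_cases b <;> first | rfl | omega
      have hc' : M.charpoly = cyclotomic 1 ℤ ^ 2 * cyclotomic 12 ℤ := by
        rw [hc, cyclotomic_one]; simp; ring
      have h4 := aeval_radical hn hM two_pos hc'
      rw [cyclotomic_one, cyclotomic_twelve] at h4
      simp at h4
      rw [show (M ^ 2 - 1) * (M ^ 4 - M ^ 2 + 1) = (M + 1) * ((M - 1) * (M ^ 4 - M ^ 2 + 1)) by
        noncomm_ring, h4, mul_zero]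
    · obtain rfl : b = 0 := by
        interval_cases b <;> first | rfl | omega
      have h4 := aeval_radical hn hM one_pos (d := 12) (by rw [pow_one]; exact hc)
      rw [cyclotomic_twelve] at h4
      simp at h4
      rw [← h4]
      noncomm_ring
  set P := M ^ 4 - M ^ 2 + 1 with hP
  have hPP : P * P = P := by
    rw [← sub_eq_zero, show P * P - P = M ^ 2 * ((M ^ 2 - 1) * P) by rw [hP]; noncomm_ring, hbad,
      mul_zero]
  have hP4 : P * M ^ 4 = P := by
    rw [← sub_eq_zero, show P * M ^ 4 - P = (M ^ 2 + 1) * ((M ^ 2 - 1) * P) by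
      rw [hP]; noncomm_ring, hbad, mul_zero]
  have hsym : Pᵀ * kKE6 = kKE6 * P := by
    have hcancel : ∀ j : ℕ, ∀ Y Z : Matrix (Fin tabE6.l) (Fin tabE6.l) ℤ,
        Y * M ^ j = Z * M ^ j → Y = Z := fun j Y Z hYZ => by
      have h5 : M ^ j * M ^ (n * j - j) = 1 := by
        rw [← pow_add, Nat.add_sub_cancel' (Nat.le_mul_of_pos_left _ hn), pow_mul, hM, one_pow]
      calc Y = Y * M ^ j * M ^ (n * j - j) := by rw [mul_assoc, h5, mul_one]
        _ = Z := by rw [hYZ, mul_assoc, h5, mul_one]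
    refine hcancel 4 _ _ ?_
    have i2 : (M ^ 2)ᵀ * kKE6 * M ^ 2 = kKE6 := (iso_pow e.iso 2).1
    have i4 : (M ^ 4)ᵀ * kKE6 * M ^ 4 = kKE6 := (iso_pow e.iso 4).1
    rw [mul_assoc kKE6 P, hP4, hP, Matrix.transpose_add, Matrix.transpose_sub, Matrix.transpose_one,
      add_mul, sub_mul, add_mul, sub_mul, one_mul, i4,
      show (M ^ 2)ᵀ * kKE6 * M ^ 4 = (M ^ 2)ᵀ * kKE6 * M ^ 2 * M ^ 2 by
        rw [mul_assoc _ (M ^ 2) (M ^ 2), ← pow_add], i2, mul_add, mul_sub, mul_one]
    abel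
  obtain ⟨N, hN⟩ := e.iso.2
  have hint : P * cartanT tabE6 = cartanT tabE6 *
      ((1 + N * cartanT tabE6) ^ 4 - (1 + N * cartanT tabE6) ^ 2 + 1) := by
    have hMC : M * cartanT tabE6 = cartanT tabE6 * (1 + N * cartanT tabE6) := by
      rw [hN]; noncomm_ring
    have hpow : ∀ j : ℕ, M ^ j * cartanT tabE6 = cartanT tabE6 * (1 + N * cartanT tabE6) ^ j := by
      intro j
      induction j with
      | zero => simp
      | succ j ih => rw [pow_succ, mul_assoc, hMC, ← mul_assoc, ih, mul_assoc, ← pow_succ]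
    rw [hP, add_mul, sub_mul, hpow, hpow, one_mul, mul_add, mul_sub, mul_one]
  rcases proj_trivial evE6 hdiagE6 hconnE6 hPP hsym hint with h0 | h0
  · -- a fixed vector
    have hdet : (Matrix.scalar (Fin tabE6.l) (1 : ℤ) - M).det = 0 := by
      rw [← Matrix.eval_charpoly, hc, cyclotomic_twelve]
      obtain ⟨hb1, hb2⟩ := hb
      rcases hcc with rfl | rfl <;> simp <;> interval_cases b <;> omega
    obtain ⟨v, hv, hMv⟩ := Matrix.exists_mulVec_eq_zero_iff.2 hdet
    rw [map_one, Matrix.sub_mulVec, Matrix.one_mulVec, sub_eq_zero, eq_comm] at hMv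
    have hpow : ∀ j : ℕ, M ^ j *ᵥ v = v := fun j => by
      induction j with
      | zero => simp
      | succ j ih => rw [pow_succ, ← Matrix.mulVec_mulVec, hMv, ih]
    refine hv ?_
    have h5 := congrArg (fun X => X *ᵥ v) h0
    simpa [hP, Matrix.add_mulVec, Matrix.sub_mulVec, hpow] using h5
  · -- an involution has no eigenvalue of order 12
    have h6 : M ^ 2 - 1 = 0 := by
      have h6 := hbad
      rwa [h0, mul_one] at h6
    rw [sub_eq_zero] at h6
    have h7 : (α * α) • x = x := by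
      have := congrArg (fun X : Matrix _ _ ℤ => x ᵥ* X.map (Int.castRingHom (ZMod r))) h6
      rw [Matrix.map_pow, pow_two, ← Matrix.vecMul_vecMul, e.eig, Matrix.smul_vecMul, e.eig,
        smul_smul, Matrix.map_one _ (map_zero _) (map_one _), Matrix.vecMul_one] at this
      exact this
    have h8 : α * α = 1 := smul_left_injective (ZMod r) e.ne (by simpa using h7)
    have h9 : orderOf α ∣ 2 := orderOf_dvd_of_pow_eq_one (by rw [pow_two, h8])
    rw [e.ord] at h9
    norm_num at h9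

end CfsgLib.Chev.CycTorus
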