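import Cfsg.Agent.Lib.Chev.CycTorus.DetE7
import Cfsg.Agent.Lib.Chev.CycTorus.EmbedE7

/-!
Twisting by a monomial element of type `Φ₁₂ Φ₆ Φ₂` in E7.
-/

set_option autoImplicit false
set_option maxRecDepth 100000
set_option maxHeartbeats 1000000

namespace CfsgLib.Chev.CycTorus

open Cfsg.Lie Matrix Polynomial CfsgLib.Chev.Cert CfsgLib.Chev.GTorus CfsgLib.Chev.SylowTorus

theorem inverseE7 : kKE7 * cartanT tabE7 = ((2 : ℕ) : ℤ) • 1 := by exact_mod_cast evE7.inv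

theorem rootsE7 : ∀ s < tabE7.n,
    kKE7 *ᵥ carV tabE7 s = (2 : ℤ) • (fun i => (kKE7 *ᵥ carV tabE7 s) i / 2) ∧
      qf kKE7 (carV tabE7 s) = 4 ∧ carV tabE7 (tabE7.neg s) = -carV tabE7 s := by
  decide +kernel

theorem carV_inj_check : ((List.range tabE7.n).all fun r => (List.range tabE7.n).all fun s =>
    decide (r = s) || !decide (carV tabE7 r = carV tabE7 s)) = true := by
  decide +kernel

theorem carV_inj {r s : ℕ} (hr : r < tabE7.n) (hs : s < tabE7.n)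
    (e : carV tabE7 r = carV tabE7 s) : r = s := by
  have h := carV_inj_check
  simp only [List.all_eq_true, List.mem_range, Bool.or_eq_true, decide_eq_true_eq,
    Bool.not_eq_true', decide_eq_false_iff_not] at h
  exact (h r hr s hs).resolve_right (not_not.2 e)

theorem card_level : ((Finset.range tabE7.n).filter fun r =>
    (kKE7 *ᵥ carV tabE7 r) last7 = 2).card = 27 := by
  decide +kernel

theorem simple_refl : ∀ i < tabE7.l, reflMat tabE7 i * reflMat tabE7 i = 1 ∧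
    ∀ j : Fin tabE7.l, (j : ℕ) = i →
      kKE7 *ᵥ carV tabE7 (tabE7.simple i) = (2 : ℤ) • Pi.single j 1 := by
  decide +kernel

variable {L : Type*} [Field L]

/-- The elements `n_r(t)` act through reflections. -/
theorem refl_elem {r : ℕ} (hr : r < tabE7.n) : ∀ t : L, t ≠ 0 →
    nU chevE7 r t ∈ chevE7.monomialSubgroup L ∧
      ∀ u, kKE7 *ᵥ carV tabE7 r = (2 : ℤ) • u →
        Acts chevE7 tabE7 (nU chevE7 r t) (1 - Matrix.vecMulVec (carV tabE7 r) u) := by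
  refine certE7.root_induction (P := fun r => ∀ t : L, t ≠ 0 →
    nU chevE7 r t ∈ chevE7.monomialSubgroup L ∧
      ∀ u, kKE7 *ᵥ carV tabE7 r = (2 : ℤ) • u →
        Acts chevE7 tabE7 (nU chevE7 r t) (1 - Matrix.vecMulVec (carV tabE7 r) u))
    (fun i hi t ht => ?_) (fun i hi r hr ih t ht => ?_) hr
  · refine ⟨certE7.nU_simple_mem_monomial hi ht, fun u hu => ?_⟩
    have hu' : u = Pi.single (⟨i, hi⟩ : Fin tabE7.l) 1 :=
      smul_right_injective _ (two_ne_zero (α := ℤ)) (hu.symm.trans ((simple_refl i hi).2 ⟨i, hi⟩ rfl))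
    have e : 1 - Matrix.vecMulVec (carV tabE7 (tabE7.simple i)) u = reflMat tabE7 i := by
      subst hu'
      ext j k
      simp only [Matrix.sub_apply, Matrix.vecMulVec_apply, reflMat, Pi.single_apply, Fin.ext_iff,
        carV, mul_ite, mul_one, mul_zero]
    rw [e]
    exact fun s hs => ⟨tabE7.refl i s, certE7.refl_lt hi hs, certE7.Maps_nU_simple hi ht hs,
      carV_refl certE7 hi hs⟩
  · set s := tabE7.refl i r with hs
    have hsn : s < tabE7.n := certE7.refl_lt hi hr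
    have hspec := certE7.refl_spec hi hr
    set η : L := (tabE7.eta i r : L) with hη
    have hη2 : η * η = 1 := by
      rcases tabE7.eta_cases i r with e | e <;> simp [hη, e]
    have hη0 : η ≠ 0 := fun e => by rw [e, zero_mul] at hη2; exact zero_ne_one hη2
    have hηinv : η⁻¹ = η := inv_eq_of_mul_eq_one_right hη2
    have e : nU chevE7 s t = nS chevE7 L i * nU chevE7 r (η * t) * (nS chevE7 L i)⁻¹ := by
      have hneg := Cert.neg_lt (T := tabE7) hr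
      rw [nU, nU, certE7.neg_eq hr, certE7.neg_eq hsn,
        show nS chevE7 L i * (X chevE7 r (η * t) * X chevE7 (tabE7.neg r) (-(η * t)⁻¹) *
          X chevE7 r (η * t)) * (nS chevE7 L i)⁻¹ =
          (nS chevE7 L i * X chevE7 r (η * t) * (nS chevE7 L i)⁻¹) *
          (nS chevE7 L i * X chevE7 (tabE7.neg r) (-(η * t)⁻¹) * (nS chevE7 L i)⁻¹) *
          (nS chevE7 L i * X chevE7 r (η * t) * (nS chevE7 L i)⁻¹) by group,
        certE7.nS_conj_X hi hr, certE7.nS_conj_X hi hneg, hspec.2.2.1, hspec.2.2.2.2.1, ← hη,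
        ← mul_assoc, hη2, one_mul, _root_.mul_inv, hηinv, mul_neg, ← mul_assoc, hη2, one_mul]
    obtain ⟨hmem, hacts⟩ := ih (η * t) (mul_ne_zero hη0 ht)
    refine ⟨?_, fun u hu => ?_⟩
    · rw [e]
      exact mul_mem (mul_mem (certE7.nS_mem_monomial hi) hmem) (inv_mem (certE7.nS_mem_monomial hi))
    set R := reflMat tabE7 i with hR
    have hRR : R * R = 1 := (simple_refl i hi).1
    have hsym : kKE7 * R = Rᵀ * kKE7 := by
      have h1 : Rᵀ * kKE7 * R = kKE7 := (refl_isoE7 i hi).1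
      conv_rhs => rw [← Matrix.mul_one (Rᵀ * kKE7), ← hRR, ← Matrix.mul_assoc, h1]
    have hcs : carV tabE7 s = R *ᵥ carV tabE7 r := carV_refl certE7 hi hr
    have hcr : carV tabE7 r = R *ᵥ carV tabE7 s := by
      rw [hcs, Matrix.mulVec_mulVec, hRR, Matrix.one_mulVec]
    have hu0 : kKE7 *ᵥ carV tabE7 r = (2 : ℤ) • (u ᵥ* R) := by
      rw [hcr, Matrix.mulVec_mulVec, hsym, ← Matrix.mulVec_mulVec, hu, Matrix.mulVec_smul,
        Matrix.mulVec_transpose]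
    have hS : Acts chevE7 tabE7 (nS chevE7 L i) R := fun a ha =>
      ⟨tabE7.refl i a, certE7.refl_lt hi ha, certE7.Maps_nS hi ha, carV_refl certE7 hi ha⟩
    have hSi : Acts chevE7 tabE7 (nS chevE7 L i)⁻¹ R := fun a ha => by
      refine ⟨tabE7.refl i a, certE7.refl_lt hi ha, ?_, carV_refl certE7 hi ha⟩
      have h1 := Cert.Maps_inv (certE7.Maps_nS (F := L) hi (certE7.refl_lt hi ha))
      rwa [certE7.refl_refl hi ha] at h1
    have h1 := acts_mul (acts_mul hS (hacts _ hu0)) hSi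
    rw [← e] at h1
    convert h1 using 1
    rw [mul_sub, sub_mul, mul_one, hRR, Matrix.mul_vecMulVec, ← hcs, Matrix.vecMulVec_mul,
      Matrix.vecMul_vecMul, hRR, Matrix.vecMul_one]

/-- Orthogonal root subgroups commute. -/
theorem orth_commute {r s : ℕ} (hr : r < tabE7.n) (hs : s < tabE7.n)
    (h : carV tabE7 r ⬝ᵥ kKE7 *ᵥ carV tabE7 s = 0) (t u : L) :
    Commute (X chevE7 r t) (X chevE7 s u) := by
  have h4 := fun a ha => (rootsE7 a ha).2.1
  have hne : s ≠ r := by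
    rintro rfl
    have := h4 s hs
    rw [qf] at this
    omega
  have hneg : s ≠ tabE7.neg r := by
    rintro rfl
    have := h4 r hr
    rw [(rootsE7 r hr).2.2, Matrix.mulVec_neg, dotProduct_neg] at h
    rw [qf] at this
    omega
  have hnil : tabE7.commTerms r s = [] := by
    refine List.eq_nil_iff_forall_not_mem.2 fun c hc => ?_
    obtain ⟨a, b, ha, hb, he⟩ := certE7.commTerms_car hr hs hc
    have hcl := certE7.commTerms_lt hr hs hc
    have hv : carV tabE7 c.1 = (a : ℤ) • carV tabE7 r + (b : ℤ) • carV tabE7 s :=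
      funext fun j => by simpa [carV] using he j j.2
    have h5 := h4 _ hcl
    rw [hv, qf_add evE7, qf_smul, qf_smul, h4 r hr, h4 s hs, Matrix.mulVec_smul, dotProduct_smul,
      smul_dotProduct, h, smul_zero, smul_zero] at h5
    have ha' : (1 : ℤ) ≤ a := by exact_mod_cast ha
    have hb' : (1 : ℤ) ≤ b := by exact_mod_cast hb
    nlinarith
  have e := certE7.X_conj hr hs hne hneg t u
  rw [hnil] at e
  simp only [List.map_nil, List.prod_nil, mul_one] at e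
  rw [← certE7.X_inv hr, mul_assoc, inv_mul_eq_iff_eq_mul] at e
  exact e.symm

variable {F : Type*} [Field F] [Fintype F]

/-- A twisting element in E7. -/
theorem exists_twist_E7 {L : Type} [Field L] [Fintype L]
    (hQ : Fintype.card L = Fintype.card F ^ 12) (f : F →+* L) (σ : L →+* L)
    (hσ : ∀ x, σ x = x ^ Fintype.card F) :
    ∃ (gg : GL chevE7.Idx L) (M M₀ N₀ : Matrix (Fin tabE7.l) (Fin tabE7.l) ℤ),
      gg ∈ chevE7.group L ∧ mapGL chevE7 σ gg * gg⁻¹ ∈ chevE7.monomialSubgroup L ∧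
      Acts chevE7 tabE7 (mapGL chevE7 σ gg * gg⁻¹)⁻¹ M ∧ Iso (cartanT tabE7) kKE7 M ∧
      M = M₀ - N₀ ∧
      ∀ t s : ℤ, 2 ≤ t → (Matrix.scalar (Fin tabE7.l) t - M₀ + s • N₀).det =
        (t ^ 4 - t ^ 2 + 1) * (t ^ 3 - 1 + 2 * s) := by
  classical
  set q := Fintype.card F with hq
  have hq2 : 2 ≤ q := Fintype.one_lt_card
  obtain ⟨⟨gg6, hgg6, r, hr, hr13, α, x, ω, hω, X₆, hx, s₀, hk, hym6, hreg, M6, hM6, he⟩⟩ :=
    nonempty_twistE6 (F := F) hQ f σ hσ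
  have : Fact r.Prime := ⟨hr⟩
  obtain ⟨hch6, -, -⟩ := he.shape
  obtain ⟨G₆, hG₆⟩ := exists_lift certE6 hgg6
  set n6 := (covMap σ G₆ * G₆⁻¹)⁻¹ with hn6
  have hn6π : (cov certE6 L).π n6 = (mapGL chevE6 σ gg6 * gg6⁻¹)⁻¹ := by
    rw [hn6, map_inv, map_mul, map_inv, π_covMap, hG₆]
  obtain ⟨w, hw, hMw, hnm, hM7⟩ := emb_monomial (z := n6) (by rw [hn6π]; exact inv_mem hym6)
  rw [hn6π] at hMw
  have hM6w : (w.map (reflMat tabE6)).prod = M6 :=
    acts_unique_of certE6 (by norm_num) inverseE6 hMw hM6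
  set gg := emb L G₆ with hggdef
  have hgg : gg ∈ chevE7.group L := emb_mem G₆
  set n := emb L n6 with hn
  have hny : n = (mapGL chevE7 σ gg * gg⁻¹)⁻¹ := by
    rw [hn, hn6, map_inv, map_mul, map_inv, emb_covMap]
  set M := (w.map (reflMat tabE7)).prod with hMdef
  have hIM : Iso (cartanT tabE7) kKE7 M := iso_word refl_isoE7 (wordOK_E7 hw)
  obtain ⟨hblock, hlast⟩ : (∀ a b, M (inc a) (inc b) = (w.map (reflMat tabE6)).prod a b) ∧
      ∀ a, M a last7 = if a = last7 then 1 else 0 := word_block hw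
  have hdet7 : ∀ t : ℤ, (Matrix.scalar (Fin tabE7.l) t - M).det =
      (t ^ 4 - t ^ 2 + 1) * (t ^ 3 - 1) := fun t => by
    rw [det_block hw, hM6w, ← Matrix.eval_charpoly, hch6, cyclotomic_twelve]
    simp only [eval_mul, eval_add, eval_sub, eval_pow, eval_X, eval_one]
    ring
  have hch7 : M.charpoly = (Polynomial.X ^ 4 - Polynomial.X ^ 2 + 1) * (Polynomial.X ^ 3 - 1) :=
    Polynomial.funext fun t => by rw [Matrix.eval_charpoly, hdet7]; simp
  have hCH : (M ^ 4 - M ^ 2 + 1) * (M ^ 3 - 1) = 0 := by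
    have h1 := Matrix.aeval_self_charpoly M
    rw [hch7] at h1
    simpa using h1
  have h61 : (M ^ 6 + 1) * (M ^ 3 - 1) = 0 := by
    calc (M ^ 6 + 1) * (M ^ 3 - 1) = (M ^ 2 + 1) * ((M ^ 4 - M ^ 2 + 1) * (M ^ 3 - 1)) := by noncomm_ring
      _ = 0 := by rw [hCH, mul_zero]
  have h12 : M ^ 12 = 1 := by
    rw [← sub_eq_zero, show M ^ 12 - 1 = (M ^ 3 + 1) * ((M ^ 6 + 1) * (M ^ 3 - 1)) by noncomm_ring,
      h61, mul_zero]
  have he6 : M *ᵥ Pi.single last7 1 = Pi.single last7 1 := by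
    rw [Matrix.mulVec_single_one]
    funext a
    rw [Matrix.col_apply, hlast, Pi.single_apply]
  -- a root of level one fixed by the sixth power
  have hlev : ∀ v, (kKE7 *ᵥ (M *ᵥ v)) last7 = (kKE7 *ᵥ v) last7 := fun v => by
    have h1 : (M *ᵥ Pi.single last7 1) ⬝ᵥ kKE7 *ᵥ (M *ᵥ v) = Pi.single last7 1 ⬝ᵥ kKE7 *ᵥ v :=
      bil_map hIM _ _
    rw [he6, single_dotProduct, single_dotProduct, one_mul, one_mul] at h1
    exact h1
  have hlevk : ∀ (k : ℕ) (v : Fin tabE7.l → ℤ),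
      (kKE7 *ᵥ ((M ^ k) *ᵥ v)) last7 = (kKE7 *ᵥ v) last7 := by
    intro k v
    induction k with
    | zero => simp
    | succ k ih => rw [pow_succ', ← Matrix.mulVec_mulVec, hlev, ih]
  have hnext : ∀ (k : ℕ) (a : ℕ), a < tabE7.n →
      ∃ b < tabE7.n, carV tabE7 b = (M ^ k) *ᵥ carV tabE7 a := fun k a ha => by
    obtain ⟨b, hb, -, e⟩ := acts_pow certE7 hM7 k a ha
    exact ⟨b, hb, e⟩
  choose nx hnx using hnext 6
  let S := {a : ℕ // a ∈ (Finset.range tabE7.n).filter fun a => (kKE7 *ᵥ carV tabE7 a) last7 = 2}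
  have hS : Fintype.card S = 27 := by
    rw [Fintype.card_coe]
    exact card_level
  have hSn : ∀ a : S, a.1 < tabE7.n := fun a => Finset.mem_range.1 (Finset.mem_filter.1 a.2).1
  let π : S → S := fun a => ⟨nx a.1 (hSn a), Finset.mem_filter.2
    ⟨Finset.mem_range.2 (hnx _ _).1, by rw [(hnx _ _).2, hlevk]; exact (Finset.mem_filter.1 a.2).2⟩⟩
  have hπ : Function.Involutive π := fun a => by
    refine Subtype.ext (carV_inj (hnx _ _).1 (hSn a) ?_)
    show carV tabE7 (nx (nx a.1 _) _) = _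
    rw [(hnx _ _).2, (hnx _ _).2, Matrix.mulVec_mulVec, ← pow_add, h12, Matrix.one_mulVec]
  obtain ⟨a, ha⟩ := Equiv.Perm.exists_fixed_point_of_prime (p := 2) (n := 1) (α := S)
    (by rw [hS]; norm_num) (σ := hπ.toPerm) (Equiv.ext fun b => by simp [pow_two, hπ b])
  set r₀ := a.1 with hr₀def
  have hr0 : r₀ < tabE7.n := hSn a
  set β := carV tabE7 r₀ with hβ
  have hβ6 : (M ^ 6) *ᵥ β = β := by
    rw [hβ, ← (hnx _ hr0).2]
    exact congrArg (fun b : S => carV tabE7 b.1) ha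
  have hβ3 : (M ^ 3) *ᵥ β = β := by
    have h1 : (M ^ 6 + 1) *ᵥ ((M ^ 3) *ᵥ β - β) = 0 := by
      rw [show (M ^ 3) *ᵥ β - β = (M ^ 3 - 1) *ᵥ β by rw [Matrix.sub_mulVec, Matrix.one_mulVec],
        Matrix.mulVec_mulVec, h61, Matrix.zero_mulVec]
    have h2 : (M ^ 6) *ᵥ ((M ^ 3) *ᵥ β - β) = (M ^ 3) *ᵥ β - β := by
      rw [Matrix.mulVec_sub, Matrix.mulVec_mulVec, ← pow_add, show 6 + 3 = 3 + 6 from rfl, pow_add,
        ← Matrix.mulVec_mulVec, hβ6]
    rw [Matrix.add_mulVec, Matrix.one_mulVec, h2, ← two_smul ℤ] at h1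
    exact sub_eq_zero.1 ((smul_eq_zero.1 h1).resolve_left two_ne_zero)
  have hβlev : (kKE7 *ᵥ β) last7 = 2 := (Finset.mem_filter.1 a.2).2
  have hβqf : qf kKE7 β = 4 := (rootsE7 r₀ hr0).2.1
  set u : Fin tabE7.l → ℤ := fun i => (kKE7 *ᵥ β) i / 2 with hu_def
  have hu : kKE7 *ᵥ β = (2 : ℤ) • u := (rootsE7 r₀ hr0).1
  -- the orbit is orthogonal
  set b := β ⬝ᵥ kKE7 *ᵥ (M *ᵥ β) with hb
  have hb2 : β ⬝ᵥ kKE7 *ᵥ ((M ^ 2) *ᵥ β) = b := by
    rw [hb, ← bil_map hIM β ((M ^ 2) *ᵥ β), Matrix.mulVec_mulVec β M (M ^ 2), ← pow_succ', hβ3,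
      bil_comm evE7]
  have hb0 : b = 0 := by
    set γ := β + M *ᵥ β + (M ^ 2) *ᵥ β with hγ
    have hfix : M *ᵥ γ = γ := by
      rw [hγ, Matrix.mulVec_add, Matrix.mulVec_add, Matrix.mulVec_mulVec β M M,
        Matrix.mulVec_mulVec β M (M ^ 2), ← pow_two, ← pow_succ', hβ3]
      abel
    have h6z : (fun a => γ (inc a)) = 0 := by
      refine Matrix.eq_zero_of_mulVec_eq_zero
        (M := Matrix.scalar (Fin tabE6.l) (1 : ℤ) - M6) ?_ ?_
      · rw [← Matrix.eval_charpoly, hch6, cyclotomic_twelve]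
        simp
      · funext a
        have h1 := congrFun hfix (inc a)
        rw [Matrix.mulVec, dotProduct, sum_split, hlast,
          if_neg (fun e => by
            have h6 : (a : ℕ) = 6 := congrArg Fin.val e
            exact (h6 ▸ a.2 : 6 < tabE6.l).ne' rfl), zero_mul, add_zero] at h1
        simp only [hblock, hM6w] at h1
        rw [map_one, Matrix.sub_mulVec, Matrix.one_mulVec, Pi.sub_apply, Matrix.mulVec, dotProduct, h1,
          sub_self, Pi.zero_apply]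
    have hγe : γ = γ last7 • Pi.single last7 (1 : ℤ) := by
      funext a
      by_cases hal : a = last7
      · subst hal; simp
      · have ha6 : (a : ℕ) < tabE6.l := by
          have h7 : (a : ℕ) < 6 + 1 := a.2
          have h6 : (a : ℕ) ≠ 6 := fun e => hal (Fin.ext e)
          show (a : ℕ) < 6
          omega
        have := congrFun h6z ⟨a, ha6⟩
        rw [Pi.zero_apply] at this
        rw [show (inc ⟨a, ha6⟩ : Fin tabE7.l) = a from Fin.ext rfl] at this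
        rw [this, Pi.smul_apply, Pi.single_apply, if_neg hal, smul_zero]
    have hK : kKE7 last7 last7 = 3 := by decide +kernel
    have hlγ : (kKE7 *ᵥ γ) last7 = 6 := by
      rw [hγ, Matrix.mulVec_add, Matrix.mulVec_add, Pi.add_apply, Pi.add_apply, hlev, hlevk, hβlev]
      norm_num
    have ht : γ last7 = 2 := by
      rw [hγe, Matrix.mulVec_smul, Pi.smul_apply, Matrix.mulVec_single_one, Matrix.col_apply, hK,
        smul_eq_mul] at hlγ
      omega
    have hqγ : qf kKE7 γ = 12 := by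
      rw [hγe, qf_smul, ht, qf, Matrix.mulVec_single_one, single_dotProduct, Matrix.col_apply, hK]
      norm_num
    rw [hγ, qf_add evE7, qf_add evE7, add_dotProduct,
      show qf kKE7 (M *ᵥ β) = qf kKE7 β from bil_map hIM _ _,
      show qf kKE7 ((M ^ 2) *ᵥ β) = qf kKE7 β from bil_map (iso_pow hIM 2) _ _,
      show (M *ᵥ β) ⬝ᵥ kKE7 *ᵥ ((M ^ 2) *ᵥ β) = b by
        rw [pow_two, ← Matrix.mulVec_mulVec, bil_map hIM], hb2, hβqf, ← hb] at hqγ
    omega
  have hu1 : u ⬝ᵥ (M *ᵥ β) = 0 := by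
    have h1 : (2 : ℤ) * (u ⬝ᵥ (M *ᵥ β)) = b := by
      rw [hb, bil_comm evE7, hu, dotProduct_smul, smul_eq_mul, dotProduct_comm]
    omega
  have hu2 : u ⬝ᵥ ((M ^ 2) *ᵥ β) = 0 := by
    have h1 : (2 : ℤ) * (u ⬝ᵥ ((M ^ 2) *ᵥ β)) = b := by
      rw [← hb2, bil_comm evE7, hu, dotProduct_smul, smul_eq_mul, dotProduct_comm]
    omega
  obtain ⟨hIR, -, hua⟩ := iso_refl evE7 hu (by rw [hβqf]; norm_num)
  -- the three roots
  obtain ⟨r₁, hr1, hc1⟩ : ∃ c < tabE7.n, carV tabE7 c = M *ᵥ β := by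
    obtain ⟨c, hc, -, e⟩ := hM7 r₀ hr0
    exact ⟨c, hc, e⟩
  obtain ⟨r₂, hr2, hc2⟩ : ∃ c < tabE7.n, carV tabE7 c = (M ^ 2) *ᵥ β := by
    obtain ⟨c, hc, e⟩ : ∃ c < tabE7.n, carV tabE7 c = M *ᵥ carV tabE7 r₁ := by
      obtain ⟨c, hc, -, e⟩ := hM7 r₁ hr1
      exact ⟨c, hc, e⟩
    exact ⟨c, hc, by rw [e, hc1, Matrix.mulVec_mulVec, ← pow_two]⟩
  have hstep : ∀ a b : ℕ, a < tabE7.n → b < tabE7.n → carV tabE7 b = M *ᵥ carV tabE7 a →
      ∃ c : L, c ≠ 0 ∧ (∀ t, n * mapGL chevE7 σ (X chevE7 a t) * n⁻¹ = X chevE7 b (c * t ^ q)) ∧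
        ∀ t, n * mapGL chevE7 σ (X chevE7 (tabE7.neg a) t) * n⁻¹ =
          X chevE7 (tabE7.neg b) (c⁻¹ * t ^ q) := by
    intro a b ha hb hab
    obtain ⟨s, c, hs, hc, e1, e2⟩ := certE7.monomial_pair hnm ha
    obtain ⟨s', hs', hmaps, es⟩ := hM7 a ha
    have hsb : s = b := by
      rw [← certE7.Maps_unique hs' hs hmaps ⟨c, hc, e1⟩]
      exact carV_inj hs' hb (es.trans hab.symm)
    subst hsb
    exact ⟨c, hc, fun t => by rw [certE7.X_map, hσ, e1], fun t => by rw [certE7.X_map, hσ, e2]⟩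
  obtain ⟨c₀, hc₀, p0, m0⟩ := hstep r₀ r₁ hr0 hr1 hc1
  obtain ⟨c₁, hc₁, p1, m1⟩ := hstep r₁ r₂ hr1 hr2 (by rw [hc2, hc1, Matrix.mulVec_mulVec, ← pow_two])
  obtain ⟨c₂, hc₂, p2, m2⟩ := hstep r₂ r₀ hr2 hr0 (by
    rw [hc2, Matrix.mulVec_mulVec, ← pow_succ', hβ3])
  let θ : GL chevE7.Idx L →* GL chevE7.Idx L := (MulAut.conj n).toMonoidHom.comp (mapGL chevE7 σ)
  have hθ : ∀ v, θ v = n * mapGL chevE7 σ v * n⁻¹ := fun v => rfl
  set κ : L := c₂ * (c₁ * c₀ ^ q) ^ q with hκ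
  have hκ0 : κ ≠ 0 := mul_ne_zero hc₂ (pow_ne_zero _ (mul_ne_zero hc₁ (pow_ne_zero _ hc₀)))
  set Q := q ^ 3 with hQdef
  have hθp : ∀ t, θ (θ (θ (X chevE7 r₀ t))) = X chevE7 r₀ (κ * t ^ Q) := fun t => by
    simp only [hθ]
    rw [p0, p1, p2]
    congr 1
    rw [hκ, hQdef]
    ring
  have hθm : ∀ t, θ (θ (θ (X chevE7 (tabE7.neg r₀) t))) =
      X chevE7 (tabE7.neg r₀) (κ⁻¹ * t ^ Q) := fun t => by
    simp only [hθ]
    rw [m0, m1, m2]
    congr 1
    rw [hκ, hQdef, _root_.mul_inv, ← inv_pow, _root_.mul_inv, ← inv_pow]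
    ring
  have hid : ∀ v, θ (θ (θ (θ (θ (θ (θ (θ (θ (θ (θ (θ v))))))))))) = v := by
    intro v
    have hθ' : ∀ v, θ v = gg * mapGL chevE7 σ (gg⁻¹ * v * gg) * gg⁻¹ := fun v => by
      rw [hθ, hny, map_mul, map_mul, map_inv]
      group
    have h12' : ∀ z : L, σ (σ (σ (σ (σ (σ (σ (σ (σ (σ (σ (σ z))))))))))) = z := fun z => by
      simp only [hσ, ← pow_mul]
      conv_rhs => rw [← FiniteField.pow_card z, hQ]
      congr 1
      ring
    have hG : ∀ g : GL chevE7.Idx L, mapGL chevE7 σ (mapGL chevE7 σ (mapGL chevE7 σ (mapGL chevE7 σ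
        (mapGL chevE7 σ (mapGL chevE7 σ (mapGL chevE7 σ (mapGL chevE7 σ (mapGL chevE7 σ
        (mapGL chevE7 σ (mapGL chevE7 σ (mapGL chevE7 σ g))))))))))) = g := fun g => by
      refine Units.ext (Matrix.ext fun i j => ?_)
      simp only [coe_mapGL, Matrix.map_apply]
      exact h12' _
    simp only [hθ', mul_assoc, inv_mul_cancel_left, inv_mul_cancel, mul_one]
    rw [hG]
    group
  have hκS : κ ^ (1 + Q + Q * Q + Q * (Q * Q)) = 1 := by
    have h1 := hid (X chevE7 r₀ 1)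
    rw [hθp, hθp, hθp, hθp] at h1
    have h2 := certE7.X_inj hr0 h1
    refine Eq.trans ?_ h2
    ring
  -- the parameters
  obtain ⟨gen, hgen⟩ := IsCyclic.exists_ofOrder_eq_natCard (α := Lˣ)
  have hQ1 : 8 ≤ Q := by rw [hQdef]; exact le_trans (by norm_num) (Nat.pow_le_pow_left hq2 3)
  have hcardL : Nat.card Lˣ = (Q * Q - 1) * (Q * Q + 1) := by
    rw [Nat.card_units, Nat.card_eq_fintype_card, hQ, hQdef, mul_comm (q ^ 3 * q ^ 3 - 1),
      ← Nat.sq_sub_sq, one_pow]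
    congr 1
    ring
  have hne1 : 1 ≤ Q * Q := Nat.one_le_iff_ne_zero.2 (Nat.mul_ne_zero (by omega) (by omega))
  obtain ⟨μ, hμ⟩ : ∃ μ : Lˣ, (μ : L) ^ (Q - 1) = κ := by
    obtain ⟨m, hm⟩ : ∃ m : ℕ, gen ^ m = Units.mk0 κ hκ0 := by
      have : Units.mk0 κ hκ0 ∈ Subgroup.zpowers gen := by
        rw [Subgroup.eq_top_of_card_eq (Subgroup.zpowers gen) (by rw [Nat.card_zpowers, hgen])]
        exact Subgroup.mem_top _
      exact Submonoid.mem_powers_iff _ _ |>.1 (mem_powers_iff_mem_zpowers.2 this)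
    have h1 : gen ^ (m * (1 + Q + Q * Q + Q * (Q * Q))) = 1 := by
      rw [pow_mul, hm]
      exact Units.ext (by rw [Units.val_pow_eq_pow_val, Units.val_mk0, hκS, Units.val_one])
    have h2 := orderOf_dvd_of_pow_eq_one h1
    rw [hgen, hcardL, show (Q * Q - 1) * (Q * Q + 1) = (Q - 1) * (1 + Q + Q * Q + Q * (Q * Q)) by
      zify [hne1, (by omega : 1 ≤ Q)]; ring] at h2
    obtain ⟨d, rfl⟩ := Nat.dvd_of_mul_dvd_mul_right (by positivity) h2
    refine ⟨gen ^ d, ?_⟩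
    rw [← Units.val_pow_eq_pow_val, ← pow_mul, mul_comm d, hm, Units.val_mk0]
  set ρ : Lˣ := gen ^ (Q * Q + 1) with hρ
  have hρo : orderOf ρ = Q * Q - 1 := by
    rw [hρ, orderOf_pow_of_dvd (by omega) (by rw [hgen, hcardL]; exact dvd_mul_left _ _), hgen,
      hcardL, Nat.mul_div_cancel _ (by omega)]
  set ζ : L := ((ρ : Lˣ) : L) ^ (Q - 1) with hζ
  have hζ1 : ζ ≠ 1 := by
    intro e
    have h1 : ρ ^ (Q - 1) = 1 := Units.ext (by rw [Units.val_pow_eq_pow_val, Units.val_one]; exact e)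
    have h2 := Nat.le_of_dvd (by omega) (hρo ▸ orderOf_dvd_of_pow_eq_one h1)
    have : Q * 2 ≤ Q * Q := Nat.mul_le_mul_left Q (by omega)
    omega
  have hζQ : ζ ^ Q * ζ = 1 := by
    rw [← pow_succ, hζ, ← pow_mul, show (Q - 1) * (Q + 1) = Q * Q - 1 by
      zify [hne1, (by omega : 1 ≤ Q)]; ring, ← Units.val_pow_eq_pow_val, ← hρo, pow_orderOf_eq_one,
      Units.val_one]
  set η : L := (ρ : L) * (μ : L)⁻¹ with hη
  have hκη : κ * η ^ Q = ζ * η := by
    rw [← hμ, hζ, hη, mul_pow, inv_pow, show Q = Q - 1 + 1 by omega, pow_succ, pow_succ,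
      show Q - 1 + 1 - 1 = Q - 1 by omega]
    field_simp
  set lam : L := η * (1 - ζ) with hlam
  have hlam0 : lam ≠ 0 := mul_ne_zero (mul_ne_zero ρ.ne_zero (inv_ne_zero μ.ne_zero))
    (sub_ne_zero.2 (Ne.symm hζ1))
  have hfrob : (1 - ζ) ^ Q = 1 - ζ ^ Q := by
    have h1 : ∀ z : L, z ^ Q = σ (σ (σ z)) := fun z => by
      simp only [hσ, ← pow_mul]
      congr 1
      rw [hQdef]; ring
    rw [h1, h1, map_sub, map_sub, map_sub, map_one, map_one, map_one]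
  have hlamQ : κ * lam ^ Q = -lam := by
    rw [hlam, mul_pow, ← mul_assoc, hκη, hfrob]
    linear_combination -η * hζQ
  set a₀ : L := -lam⁻¹ with ha₀
  set h0 := X chevE7 (tabE7.neg r₀) a₀ * X chevE7 r₀ η with hh0
  set h1 := θ h0 with hh1
  set h2 := θ h1 with hh2
  have h3 : θ h2 = X chevE7 (tabE7.neg r₀) lam⁻¹ * X chevE7 r₀ (ζ * η) := by
    rw [hh2, hh1, hh0, map_mul, map_mul, map_mul, hθp, hθm, hκη, ha₀]
    congr 2
    have hodd : ((-1 : L)) ^ Q = -1 := by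
      have hone : ∀ z : L, z ^ Q = σ (σ (σ z)) := fun z => by
        simp only [hσ, ← pow_mul]
        congr 1
        rw [hQdef]; ring
      rw [hone]; simp
    rw [show -lam⁻¹ = (-1) * lam⁻¹ by ring, mul_pow, hodd, inv_pow, ← mul_assoc, mul_comm κ⁻¹,
      mul_assoc, ← _root_.mul_inv, hlamQ, inv_neg]
    ring
  have hneg0 := Cert.neg_lt (T := tabE7) hr0
  have hneg1 := Cert.neg_lt (T := tabE7) hr1
  have hneg2 := Cert.neg_lt (T := tabE7) hr2
  have hn1 : ∀ t, θ (X chevE7 r₀ t) = X chevE7 r₁ (c₀ * t ^ q) := p0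
  have hn1' : ∀ t, θ (X chevE7 (tabE7.neg r₀) t) = X chevE7 (tabE7.neg r₁) (c₀⁻¹ * t ^ q) := m0
  have hn2 : ∀ t, θ (X chevE7 r₁ t) = X chevE7 r₂ (c₁ * t ^ q) := p1
  have hn2' : ∀ t, θ (X chevE7 (tabE7.neg r₁) t) = X chevE7 (tabE7.neg r₂) (c₁⁻¹ * t ^ q) := m1
  have horth : ∀ c < tabE7.n, carV tabE7 r₀ ⬝ᵥ kKE7 *ᵥ carV tabE7 c = 0 → ∀ t s t' s' : L,
      Commute (X chevE7 (tabE7.neg r₀) t * X chevE7 r₀ s)
        (X chevE7 (tabE7.neg c) t' * X chevE7 c s') := by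
    intro c hc h0' t s t' s'
    have hn0 := (rootsE7 r₀ hr0).2.2
    have hnc := (rootsE7 c hc).2.2
    have hcn := Cert.neg_lt (T := tabE7) hc
    refine ((orth_commute hneg0 hcn ?_ t t').mul_right (orth_commute hneg0 hc ?_ t s')).mul_left
      ((orth_commute hr0 hcn ?_ s t').mul_right (orth_commute hr0 hc h0' s s')) <;>
      simp only [hn0, hnc, Matrix.mulVec_neg, dotProduct_neg, neg_dotProduct, h0', neg_zero]
  have hH1 : h1 = X chevE7 (tabE7.neg r₁) (c₀⁻¹ * a₀ ^ q) * X chevE7 r₁ (c₀ * η ^ q) := by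
    rw [hh1, hh0, map_mul, hn1', hn1]
  have hH2 : h2 = X chevE7 (tabE7.neg r₂) (c₁⁻¹ * (c₀⁻¹ * a₀ ^ q) ^ q) *
      X chevE7 r₂ (c₁ * (c₀ * η ^ q) ^ q) := by
    rw [hh2, hH1, map_mul, hn2', hn2]
  have hcomm : Commute (θ h2) (h1 * h2) := by
    rw [h3, hH1, hH2]
    refine (horth r₁ hr1 ?_ _ _ _ _).mul_right (horth r₂ hr2 ?_ _ _ _ _)
    · rw [hc1, ← hβ, ← hb, hb0]
    · rw [hc2, ← hβ, hb2, hb0]
  set H := h0 * h1 * h2 with hH
  have hHθ : H * (θ H)⁻¹ = h0 * (θ h2)⁻¹ := by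
    rw [hH, map_mul, map_mul, ← hh1, ← hh2, _root_.mul_inv_rev,
      show h0 * h1 * h2 * ((θ h2)⁻¹ * (h1 * h2)⁻¹) = h0 * ((h1 * h2) * (θ h2)⁻¹ * (h1 * h2)⁻¹) by group,
      (hcomm.inv_left).symm.eq, mul_inv_cancel_right]
  have hnU : h0 * (θ h2)⁻¹ = nU chevE7 (tabE7.neg r₀) a₀ := by
    rw [h3, hh0, _root_.mul_inv_rev, certE7.X_inv hr0, certE7.X_inv hneg0, nU, certE7.neg_eq hneg0,
      Cert.neg_neg (T := tabE7) hr0, mul_assoc, ← mul_assoc (X chevE7 r₀ η), certE7.X_add hr0,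
      ← mul_assoc, show η + -(ζ * η) = -a₀⁻¹ by rw [ha₀, inv_neg, inv_inv, hlam]; ring,
      show -lam⁻¹ = a₀ from rfl]
  obtain ⟨hmono', hacts'⟩ := refl_elem (L := L) hneg0 a₀ (neg_ne_zero.2 (inv_ne_zero hlam0))
  have hactsR : Acts chevE7 tabE7 (nU chevE7 (tabE7.neg r₀) a₀) (1 - Matrix.vecMulVec β u) := by
    have h4 := hacts' (-u) (by rw [(rootsE7 r₀ hr0).2.2, Matrix.mulVec_neg, hu, smul_neg])
    rwa [(rootsE7 r₀ hr0).2.2, Matrix.neg_vecMulVec, Matrix.vecMulVec_neg, _root_.neg_neg] at h4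
  have hHmem : H ∈ chevE7.group L := by
    have hm : ∀ {c : ℕ}, c < tabE7.n → ∀ t, X chevE7 c t ∈ chevE7.group L := fun hc t =>
      certE7.X_mem_group hc t
    rw [hH, hH1, hH2, hh0]
    exact mul_mem (mul_mem (mul_mem (hm hneg0 _) (hm hr0 _)) (mul_mem (hm hneg1 _) (hm hr1 _)))
      (mul_mem (hm hneg2 _) (hm hr2 _))
  have hinv : (mapGL chevE7 σ (H * gg) * (H * gg)⁻¹)⁻¹ =
      nU chevE7 (tabE7.neg r₀) a₀ * n := by
    rw [← hnU, ← hHθ, hθ, hny, map_mul]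
    group
  refine ⟨H * gg, (1 - Matrix.vecMulVec β u) * M, M, Matrix.vecMulVec β (u ᵥ* M),
    mul_mem hHmem hgg, ?_, ?_, iso_mul hIR hIM, ?_, fun t s ht => ?_⟩
  · refine (Subgroup.inv_mem_iff _).1 ?_
    rw [hinv]
    exact mul_mem hmono' hnm
  · rw [hinv]
    exact acts_mul hactsR hM7
  · rw [sub_mul, one_mul, Matrix.vecMulVec_mul]
  · have ht3 : t ^ 3 ≠ 1 := fun e => by
      nlinarith [mul_le_mul_of_nonneg_left ht (sq_nonneg t)]
    have h1 := det_rank_one (l := tabE7.l) (by decide) hβ3 hua hu1 hu2 ht3 s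
    rw [hdet7] at h1
    refine mul_left_cancel₀ (sub_ne_zero.2 ht3) (h1.trans ?_)
    ring

end CfsgLib.Chev.CycTorus
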