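import Cfsg.Agent.Lib.Chev.CycTorus.Cover
import Cfsg.Agent.Lib.Chev.GTorus.Main

/-!
The part of a twisted diagonal torus lying in the group over the small field.
-/

set_option autoImplicit false
set_option maxHeartbeats 1000000

namespace CfsgLib.Chev.CycTorus

open Cfsg.Lie Matrix CfsgLib.Chev.GTorus

variable {D : ChevalleyDatum} {T : Tab} {C : Tab.Cover} (h : Cert D T C) (hnb : Rel.Nbr T)
variable {F : Type*} [Field F] [Finite F] {L : Type} [Field L] [Finite L]
variable {Mi : Matrix (Fin T.l) (Fin T.l) ℤ} {δ : ℕ}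
variable {f : F →+* L} {σ : L →+* L} {gg : GL D.Idx L} {M : Matrix (Fin T.l) (Fin T.l) ℤ}
include h hnb

theorem twisted_mem_iff (hdet : Detects h hnb) (hMi : Mi * cartanT T = (δ : ℤ) • 1) (hδ : δ.Prime)
    (hf : ∀ x, σ x = x ↔ ∃ y, f y = x) (hgg : gg ∈ D.group L)
    (hym : mapGL D σ gg * gg⁻¹ ∈ D.monomialSubgroup L)
    (hM : Acts D T (mapGL D σ gg * gg⁻¹)⁻¹ M) (c : Fin T.l → Lˣ) :
    (∃ a ∈ D.group F, gg * mapGL D f a * gg⁻¹ = Cert.torusHom (D := D) (T := T) c) ↔
      ∃ k ∈ (matHom (G := Lˣ) (cartanT T)).ker,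
        (fun i => Units.map σ.toMonoidHom ((c * k) i)) = matHom Mᵀ (c * k) := by
  classical
  have hσf : ∀ z : D.SteinbergCover F, covMap σ (covMap f z) = covMap (D := D) f z := by
    intro z
    have hz : z ∈ Subgroup.closure {g | ∃ r, r < T.n ∧ ∃ t, g = (cov h F).x r t} := by
      rw [(cov h F).generate]; trivial
    induction hz using Subgroup.closure_induction with
    | mem g hg =>
      obtain ⟨r, hr, t, rfl⟩ := hg
      rw [covMap_x h f hr, covMap_x h σ hr, (hf _).2 ⟨t, rfl⟩]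
    | one => simp
    | mul a b _ _ ha hb => simp only [map_mul, ha, hb]
    | inv a _ ha => simp only [map_inv, ha]
  obtain ⟨G, hG⟩ := exists_lift h hgg
  set n := (covMap (D := D) σ G * G⁻¹)⁻¹ with hn
  have hnπ : (cov h L).π n = (mapGL D σ gg * gg⁻¹)⁻¹ := by
    rw [hn, map_inv, map_mul, map_inv, π_covMap, hG]
  have hnm : (cov h L).π n ∈ D.monomialSubgroup L := hnπ ▸ inv_mem hym
  have hconj : ∀ b : Fin T.l → Lˣ, n * tor h hnb L (matHom Mᵀ b) * n⁻¹ = tor h hnb L b :=
    conj_tor h hnb hdet hMi hδ hnm (hnπ ▸ hM)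
  constructor
  · rintro ⟨a, ha, e⟩
    obtain ⟨z, hz⟩ := exists_lift h ha
    set A := covMap (D := D) f z
    have hA : (cov h L).π (G * A * G⁻¹) = (cov h L).π (tor h hnb L c) := by
      rw [map_mul, map_mul, map_inv, hG, π_covMap, hz, π_tor, e]
    obtain ⟨k, hk, ek, -⟩ := eq_tor_mul h hnb hA
    rw [← map_mul] at ek
    refine ⟨k, hk, ?_⟩
    have h1 := congrArg (covMap (D := D) σ) ek
    rw [map_mul, map_mul, map_inv, hσf, covMap_tor] at h1
    have h2 : n * tor h hnb L (fun i => Units.map σ.toMonoidHom ((c * k) i)) * n⁻¹ =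
        tor h hnb L (c * k) := by
      rw [← h1, ← ek, hn]
      show _ = G * covMap f z * G⁻¹
      group
    rw [← hconj (c * k)] at h2
    exact tor_injective h hnb hdet (mul_left_cancel (mul_right_cancel h2))
  · rintro ⟨k, hk, e⟩
    set A := G⁻¹ * tor h hnb L (c * k) * G with hA
    have hfix : covMap σ A = A := by
      rw [hA, map_mul, map_mul, map_inv, covMap_tor, e, ← hconj (c * k), hn]
      group
    set g := gg⁻¹ * Cert.torusHom (D := D) (T := T) c * gg with hg
    have hAg : (cov h L).π A = g := by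
      rw [hA, map_mul, map_mul, map_inv, hG, π_tor, map_mul (Cert.torusHom (D := D) (T := T)),
        show Cert.torusHom (D := D) (T := T) k = 1 by
          rw [← MonoidHom.mem_ker, h.ker_torusHom]; exact hk, mul_one]
    have hgG : g ∈ D.group L :=
      mul_mem (mul_mem (inv_mem hgg) (h.diagonal_le_group (h.range_torusHom.le ⟨c, rfl⟩))) hgg
    have hgσ : mapGL D σ g = g := by rw [← hAg, ← π_covMap, hfix]
    obtain ⟨a₀, ha₀, t, ht, -, eg⟩ := h.fixed_decomp hgG hgσ
    obtain ⟨a₁, ha₁, ea₁⟩ : ∃ a₁ ∈ D.group F, mapGL D f a₁ = a₀ := by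
      have hle : fixGen D T σ ≤ (D.group F).map (mapGL D f) := by
        refine (Subgroup.closure_le _).2 ?_
        rintro _ ⟨r, s, hr, hs, rfl⟩
        obtain ⟨y, rfl⟩ := (hf s).1 hs
        exact ⟨X D r y, h.X_mem_group hr y, h.X_map f r y⟩
      exact hle ha₀
    obtain ⟨z₀, hz₀⟩ := exists_lift h ha₁
    obtain ⟨d, hd⟩ := h.range_torusHom.ge ht
    have hπ : (cov h L).π A = (cov h L).π (covMap f z₀ * tor h hnb L d) := by
      rw [hAg, map_mul, π_covMap, hz₀, ea₁, π_tor, hd, eg]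
    obtain ⟨k', hk', eA, -⟩ := eq_tor_mul h hnb hπ
    rw [mul_assoc, ← map_mul] at eA
    have h1 := hfix
    rw [eA, map_mul, hσf, covMap_tor] at h1
    have h2 := congrFun (tor_injective h hnb hdet (mul_left_cancel h1))
    have hval : ∀ i, ∃ u : Fˣ, Units.map f.toMonoidHom u = (d * k') i := fun i => by
      obtain ⟨y, hy⟩ := (hf _).1 (congrArg Units.val (h2 i))
      refine ⟨Units.mk0 y fun e0 => ((d * k') i).ne_zero ?_, Units.ext hy⟩
      rw [← hy, e0, map_zero]
    choose d₀ hd₀ using hval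
    refine ⟨a₁ * Cert.torusHom (D := D) (T := T) d₀,
      mul_mem ha₁ (h.diagonal_le_group (h.range_torusHom.le ⟨d₀, rfl⟩)), ?_⟩
    have ht' : mapGL D f (Cert.torusHom (D := D) (T := T) d₀) = t := by
      rw [GTorus.mapGL_torusHom f d₀, show (fun i => Units.map f.toMonoidHom (d₀ i)) = d * k' from funext hd₀,
        map_mul, hd, show Cert.torusHom (D := D) (T := T) k' = 1 by
          rw [← MonoidHom.mem_ker, h.ker_torusHom]; exact hk', mul_one]
    rw [map_mul, ea₁, ht', ← eg, hg]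
    group

/-- The torus of the small group. -/
theorem twisted_torus [Fintype F] (hdet : Detects h hnb) (hMi : Mi * cartanT T = (δ : ℤ) • 1)
    (hδ : δ.Prime) (hf : ∀ x, σ x = x ↔ ∃ y, f y = x) (hσ : ∀ x, σ x = x ^ Fintype.card F)
    (hgg : gg ∈ D.group L) (hym : mapGL D σ gg * gg⁻¹ ∈ D.monomialSubgroup L)
    (hM : Acts D T (mapGL D σ gg * gg⁻¹)⁻¹ M) (hsymm : (cartanT T)ᵀ = cartanT T)
    {N : Matrix (Fin T.l) (Fin T.l) ℤ} (hMN : M = 1 + cartanT T * N)
    (hB : (Matrix.scalar (Fin T.l) (Fintype.card F : ℤ) - Mᵀ).det ≠ 0)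
    (hdiv : (Matrix.scalar (Fin T.l) (Fintype.card F : ℤ) - Mᵀ).det.natAbs ∣ Nat.card Lˣ)
    (hcyc : IsCyclic ↥(matHom (G := Lˣ) (Matrix.scalar (Fin T.l) (Fintype.card F : ℤ) - Mᵀ)).ker) :
    ∃ H : Subgroup ↥(D.group F), IsCyclic ↥H ∧
      Nat.card ↥H * Nat.card ↥(matHom (G := Fˣ) (cartanT T)).ker =
        (Matrix.scalar (Fin T.l) (Fintype.card F : ℤ) - Mᵀ).det.natAbs ∧
      (∀ a : ↥(D.group F),
        a ∈ H ↔ gg * mapGL D f (a : GL D.Idx F) * gg⁻¹ ∈ D.diagonalSubgroup L) ∧
      ∀ c ∈ (matHom (G := Lˣ) (Matrix.scalar (Fin T.l) (Fintype.card F : ℤ) - Mᵀ)).ker,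
        ∃ a ∈ H, gg * mapGL D f (a : GL D.Idx F) * gg⁻¹ = Cert.torusHom (D := D) (T := T) c := by
  classical
  set q := Fintype.card F
  set B := Matrix.scalar (Fin T.l) (q : ℤ) - Mᵀ with hBdef
  have hker : ∀ a : Fin T.l → Lˣ,
      a ∈ (matHom B).ker ↔ (fun i => Units.map σ.toMonoidHom (a i)) = matHom Mᵀ a := by
    intro a
    have hBa : ∀ i, matHom B a i = a i ^ (q : ℤ) / matHom Mᵀ a i := fun i => by
      simp only [matHom_apply, hBdef, Matrix.sub_apply, _root_.zpow_sub, ← div_eq_mul_inv,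
        Finset.prod_div_distrib]
      congr 1
      rw [Finset.prod_eq_single i]
      · rw [Matrix.scalar_apply, Matrix.diagonal_apply_eq]
      · intro j _ hj; rw [Matrix.scalar_apply, Matrix.diagonal_apply_ne' _ hj, zpow_zero]
      · simp
    have hσu : ∀ i, Units.map σ.toMonoidHom (a i) = a i ^ (q : ℤ) := fun i => Units.ext (by
      simp [hσ, q, Units.val_pow_eq_pow_val])
    rw [MonoidHom.mem_ker, funext_iff, funext_iff]
    refine forall_congr' fun i => ?_
    rw [hBa, Pi.one_apply, div_eq_one, hσu]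
  let φ : ↥(D.group F) →* GL D.Idx L :=
    (MulAut.conj gg).toMonoidHom.comp ((mapGL D f).comp (D.group F).subtype)
  have hφ : ∀ a, φ a = gg * mapGL D f (a : GL D.Idx F) * gg⁻¹ := fun a => rfl
  have hφinj : Function.Injective φ := fun a a' e1 => by
    rw [hφ, hφ] at e1
    exact Subtype.ext (mapGL_injective D f (mul_left_cancel (mul_right_cancel e1)))
  set H := (D.diagonalSubgroup L).comap φ
  let τ : (Fin T.l → Lˣ) →* GL D.Idx L := Cert.torusHom (D := D) (T := T)
  have hsurj : ∀ z ∈ (matHom B).ker, ∃ a ∈ H, φ a = τ z := fun z hz => by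
    obtain ⟨a, ha, e⟩ := (twisted_mem_iff h hnb hdet hMi hδ hf hgg hym hM z).2
      ⟨1, one_mem _, by rw [mul_one]; exact (hker z).1 hz⟩
    exact ⟨⟨a, ha⟩, Subgroup.mem_comap.2 ((hφ ⟨a, ha⟩).trans e ▸ h.range_torusHom.le ⟨z, rfl⟩), e⟩
  let ε : ↥(matHom (G := Lˣ) B).ker → ↥H := fun z =>
    ⟨(hsurj z.1 z.2).choose, (hsurj z.1 z.2).choose_spec.1⟩
  have hε : ∀ z, φ (ε z).1 = τ z.1 := fun z => (hsurj z.1 z.2).choose_spec.2
  let εh : ↥(matHom (G := Lˣ) B).ker →* ↥H :=
    MonoidHom.mk' ε fun z z' => Subtype.ext (hφinj (by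
      rw [hε, Subgroup.coe_mul, Subgroup.coe_mul, map_mul φ, map_mul τ, hε, hε]))
  have hεsurj : Function.Surjective εh := fun a => by
    obtain ⟨c, hc⟩ := h.range_torusHom.ge (Subgroup.mem_comap.1 a.2)
    obtain ⟨k, hk, e⟩ := (twisted_mem_iff h hnb hdet hMi hδ hf hgg hym hM c).1
      ⟨a.1, a.1.2, hc.symm⟩
    refine ⟨⟨c * k, (hker _).2 e⟩, Subtype.ext (hφinj ?_)⟩
    rw [show φ (εh ⟨c * k, _⟩).1 = τ (c * k) from hε _, map_mul,
      show τ k = 1 by rw [← MonoidHom.mem_ker]; exact h.ker_torusHom.ge hk, mul_one]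
    exact hc
  have := hcyc
  refine ⟨H, isCyclic_of_surjective εh hεsurj, ?_, fun a => Iff.rfl, hsurj⟩
  -- the kernel
  let θ : ↥(matHom (G := Fˣ) (cartanT T)).ker → ↥εh.ker := fun k =>
    ⟨⟨fun i => Units.map f.toMonoidHom (k.1 i), (hker _).2 (by
      have hk1 : matHom (cartanT T) (fun i => Units.map f.toMonoidHom (k.1 i)) = 1 := by
        funext i
        rw [matHom_apply, Pi.one_apply]
        simp only [← map_zpow, ← map_prod]
        rw [show ∏ j, k.1 j ^ cartanT T i j = 1 from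
          (matHom_apply _ _ i).symm.trans (congrFun (MonoidHom.mem_ker.1 k.2) i), map_one]
      have hMk : matHom Mᵀ (fun i => Units.map f.toMonoidHom (k.1 i)) =
          fun i => Units.map f.toMonoidHom (k.1 i) := by
        set v : Fin T.l → Lˣ := fun i => Units.map f.toMonoidHom (k.1 i)
        have e2 : matHom (Nᵀ * cartanT T) v = 1 := by rw [matHom_mul, hk1, map_one]
        funext i
        rw [hMN, Matrix.transpose_add, Matrix.transpose_one, Matrix.transpose_mul, hsymm,
          matHom_apply]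
        simp only [Matrix.add_apply, _root_.zpow_add, Finset.prod_mul_distrib, ← matHom_apply, e2,
          matHom_one, Pi.one_apply, mul_one]
      rw [hMk]
      funext i
      exact Units.ext ((hf _).2 ⟨_, rfl⟩))⟩, by
      rw [MonoidHom.mem_ker]
      refine Subtype.ext (hφinj ?_)
      refine (hε _).trans (Eq.trans ?_ (map_one φ).symm)
      rw [← MonoidHom.mem_ker]
      refine h.ker_torusHom.ge (MonoidHom.mem_ker.2 ?_)
      funext i
      rw [matHom_apply, Pi.one_apply]
      simp only [← map_zpow, ← map_prod]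
      rw [show ∏ j, k.1 j ^ cartanT T i j = 1 from
        (matHom_apply _ _ i).symm.trans (congrFun (MonoidHom.mem_ker.1 k.2) i), map_one]⟩
  have hθ : Function.Bijective θ := by
    refine ⟨fun k k' e => Subtype.ext (funext fun i => Units.map_injective (f := f.toMonoidHom)
      f.injective (congrFun (congrArg (fun z => z.1.1) e) i)), fun z => ?_⟩
    have hz : z.1.1 ∈ (matHom (G := Lˣ) (cartanT T)).ker := by
      refine h.ker_torusHom.le (MonoidHom.mem_ker.2 ?_)
      show τ z.1.1 = 1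
      rw [← hε z.1, show ε z.1 = εh z.1 from rfl, MonoidHom.mem_ker.1 z.2, OneMemClass.coe_one, map_one]
    have hfix : ∀ i, ∃ u : Fˣ, Units.map f.toMonoidHom u = z.1.1 i := fun i => by
      have h1 := congrFun ((hker _).1 z.1.2) i
      have h2 : matHom Mᵀ z.1.1 = z.1.1 := by
        have e2 : matHom (Nᵀ * cartanT T) z.1.1 = 1 := by
          rw [matHom_mul, MonoidHom.mem_ker.1 hz, map_one]
        funext i
        rw [hMN, Matrix.transpose_add, Matrix.transpose_one, Matrix.transpose_mul, hsymm,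
          matHom_apply]
        simp only [Matrix.add_apply, _root_.zpow_add, Finset.prod_mul_distrib, ← matHom_apply, e2,
          matHom_one, Pi.one_apply, mul_one]
      rw [h2] at h1
      obtain ⟨y, hy⟩ := (hf _).1 (congrArg Units.val h1)
      refine ⟨Units.mk0 y fun e0 => (z.1.1 i).ne_zero ?_, Units.ext hy⟩
      rw [← hy, e0, map_zero]
    choose u hu using hfix
    refine ⟨⟨u, MonoidHom.mem_ker.2 (funext fun i => Units.map_injective (f := f.toMonoidHom)
      f.injective ?_)⟩, Subtype.ext (Subtype.ext (funext hu))⟩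
    rw [matHom_apply, map_prod, Pi.one_apply, map_one]
    simp only [map_zpow, hu]
    exact (matHom_apply _ _ i).symm.trans (congrFun (MonoidHom.mem_ker.1 hz) i)
  rw [Nat.card_eq_of_bijective θ hθ, ← card_ker_matHom B hB hdiv, ← Subgroup.card_mul_index εh.ker,
    Subgroup.index_ker, MonoidHom.range_eq_top.2 hεsurj, Subgroup.card_top, mul_comm]

end CfsgLib.Chev.CycTorus
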